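import Cfsg.Agent.DicksonPSL2.CharCase
import Cfsg.Agent.DicksonPSL2.Orders
import Cfsg.Agent.PSL2Borel.Basic
import Cfsg.Agent.Zsigmondy.Basic

/-!
# `PSL₂(3^f)`, `f` odd: the Borel subgroup, a regular element of primitive order, the Weyl element
-/

set_option autoImplicit false
set_option linter.style.haveILetI false
set_option linter.unusedSectionVars false

open Subgroup
open scoped MatrixGroups

namespace CfsgLib.Walter.FieldThree

/-- The facts used about `L = PSL₂(3^f)`. -/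
structure BorelData {L : Type*} [Group L] (U : Subgroup L) (x w : L) (f ℓ : ℕ) : Prop where
  card_U : Nat.card U = 3 ^ f
  pow : ∀ u ∈ U, u ^ 3 = 1
  comm : ∀ u ∈ U, ∀ v ∈ U, Commute u v
  cent : ∀ u ∈ U, u ≠ 1 → ∀ g, Commute g u → g ∈ U
  odd : Odd (Nat.card (normalizer (U : Set L)))
  sylow : ∀ Q : Subgroup L, IsPGroup 3 Q → U ≤ Q → Q = U
  x_mem : x ∈ normalizer (U : Set L)
  x_ord : orderOf x = ℓ
  cyc : ∀ g ∈ normalizer (U : Set L), g ^ ℓ ∈ U → g ∈ U ⊔ zpowers x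
  w_notMem : w ∉ normalizer (U : Set L)
  w_sq : w * w = 1
  w_x : w * x * w⁻¹ = x⁻¹
  cx : ∀ k, Commute k x → k ∈ normalizer (U : Set L) ∧ w * k * w⁻¹ = k⁻¹
  bruhat : ∀ g, g ∉ normalizer (U : Set L) → ∃ u ∈ U, ∃ b ∈ normalizer (U : Set L), g = u * w * b
  gen : ∀ K : Subgroup L, U ≤ K → ∀ g ∈ K, g ∉ normalizer (U : Set L) → K = ⊤

open DicksonPSL2 Matrix CfsgLib.SL2Trace in
/-- `PSL₂(3^f)` has these data. -/
theorem exists_borelData {F : Type*} [Field F] [Fintype F] [CharP F 3] {f : ℕ}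
    (hF : Fintype.card F = 3 ^ f) (hf : Odd f) (hf3 : 3 ≤ f) :
    ∃ (ℓ : ℕ) (U : Subgroup (PSL(2, F))) (x w : PSL(2, F)),
      ℓ.Prime ∧ ℓ ≠ 3 ∧ orderOf (3 : ZMod ℓ) = f ∧ BorelData U x w f ℓ := by
  classical
  haveI : Fact (Nat.Prime 3) := ⟨Nat.prime_three⟩
  obtain ⟨ℓ, hℓ, hord'⟩ := Zsigmondy.exists_ppd (a := 3) (n := f) (by norm_num) (by omega)
    (by rintro ⟨h, -⟩; omega) (by rintro ⟨h, -⟩; omega)
  have hord : orderOf (3 : ZMod ℓ) = f := by exact_mod_cast hord'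
  haveI := Fact.mk hℓ
  have hℓ3 : ℓ ≠ 3 := by
    rintro rfl
    rw [show (3 : ZMod 3) = 0 from ZMod.natCast_self 3, orderOf_zero] at hord
    omega
  have hℓ2 : ℓ ≠ 2 := by
    rintro rfl
    rw [show (3 : ZMod 2) = 1 from rfl, orderOf_one] at hord
    omega
  have hdvd : ℓ ∣ Nat.card Fˣ := by
    rw [Nat.card_units, Nat.card_eq_fintype_card, hF, ← ZMod.natCast_eq_zero_iff,
      Nat.cast_sub (Nat.one_le_pow _ _ (by norm_num)), Nat.cast_pow, Nat.cast_one, sub_eq_zero]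
    · exact_mod_cast (hord ▸ pow_orderOf_eq_one (3 : ZMod ℓ))
  obtain ⟨a, ha⟩ := exists_prime_orderOf_dvd_card' ℓ hdvd
  -- the elements
  let dg : SL(2, F) := ⟨!![(a : F), 0; 0, ((a⁻¹ : Fˣ) : F)], by simp [Matrix.det_fin_two]⟩
  let sw : SL(2, F) := ⟨!![0, 1; -1, 0], by simp [Matrix.det_fin_two]⟩
  set x : PSL(2, F) := proj dg with hx
  set w : PSL(2, F) := proj sw with hw
  have hxB : x ∈ BP := (proj_mem_BP_iff _).2 (by simp [dg])
  have hwB : w ∉ BP := fun h => by simpa [sw] using (proj_mem_BP_iff _).1 h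
  have ha2 : orderOf (a ^ 2) = ℓ := by
    rw [Nat.Coprime.orderOf_pow (ha ▸ ((Nat.coprime_primes hℓ Nat.prime_two).2 hℓ2))]
    exact ha
  have hchi : chi x = ((a ^ 2 : Fˣ) : F) := by rw [hx, chi_proj]; simp [dg]
  have hxT : IsTor x := isTor_of_chi_ne_one hxB (by
    rw [hchi, Ne, Units.val_eq_one]
    intro e
    rw [e, orderOf_one] at ha2
    exact hℓ.one_lt.ne ha2)
  have hchiPow : ∀ {g : PSL(2, F)}, g ∈ BP → ∀ n : ℕ, chi (g ^ n) = chi g ^ n := by
    intro g hg n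
    induction n with
    | zero => simp [chi_one]
    | succ n ih => rw [pow_succ, chi_mul _ hg, ih, pow_succ]
  have hU : ∀ {g : PSL(2, F)}, g ∈ upGroup → g ∈ BP := by
    rintro _ ⟨v, rfl⟩; exact u_mem_BP v
  have hnorm : normalizer ((upGroup : Subgroup (PSL(2, F))) : Set (PSL(2, F))) = BP := by
    refine le_antisymm (fun g hg => ?_) fun g hg => mem_normalizer_fintype ?_
    · obtain ⟨v, hv⟩ := (mem_normalizer_iff.1 hg (u 1)).1 ⟨1, rfl⟩
      exact mem_BP_of_conj_u one_ne_zero hv.symm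
    · rintro _ ⟨v, rfl⟩
      exact ⟨chi g * v, (conj_u hg v).symm⟩
  have hxord : orderOf x = ℓ := by
    refine orderOf_eq_prime ?_ (ne_one_of_isTor hxT)
    rw [hx, show proj dg = projHom dg from rfl, ← map_pow]
    have e : dg ^ ℓ = 1 := by
      apply Subtype.ext
      have hd : ∀ n : ℕ, ((dg ^ n : SL(2, F)) : Matrix (Fin 2) (Fin 2) F) =
          !![((a ^ n : Fˣ) : F), 0; 0, ((a⁻¹ ^ n : Fˣ) : F)] := by
        intro n
        induction n with
        | zero => ext i j; fin_cases i <;> fin_cases j <;> simp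
        | succ n ih =>
          rw [pow_succ, Matrix.SpecialLinearGroup.coe_mul, ih]
          ext i j
          fin_cases i <;> fin_cases j <;> simp [dg, pow_succ, Matrix.mul_apply, Fin.sum_univ_two]
      rw [hd, inv_pow, ← ha, pow_orderOf_eq_one]
      ext i j; fin_cases i <;> fin_cases j <;> simp
    rw [e, map_one]
  have hsw : w * w = 1 := by
    rw [hw, ← proj_mul]
    refine (proj_eq_proj_iff.2 (Or.inr ?_)).symm.trans rfl
    apply Subtype.ext
    show sw.1 * sw.1 = -(1 : Matrix (Fin 2) (Fin 2) F)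
    ext i j
    fin_cases i <;> fin_cases j <;> simp [sw, Matrix.mul_apply, Fin.sum_univ_two]
  have hwx : w * x * w⁻¹ = x⁻¹ := by
    rw [mul_inv_eq_iff_eq_mul, hw, hx, ← proj_mul, ← proj_inv, ← proj_mul]
    congr 1
    apply Subtype.ext
    rw [Matrix.SpecialLinearGroup.coe_mul, Matrix.SpecialLinearGroup.coe_mul,
      Matrix.SpecialLinearGroup.coe_inv]
    ext i j
    fin_cases i <;> fin_cases j <;>
      simp [sw, dg, Matrix.adjugate_fin_two, Matrix.mul_apply, Fin.sum_univ_two]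
  have hwT : w ∉ torus x := fun h => hwB (torus_le_BP hxT hxB h)
  refine ⟨ℓ, upGroup, x, w, hℓ, hℓ3, hord, ?_⟩
  have hcardU : Nat.card (upGroup : Subgroup (PSL(2, F))) = 3 ^ f := by rw [card_upGroup, hF]
  have hodd : Odd (Nat.card (BP (F := F))) := by
    have h := card_BP (F := F)
    have h3 : 3 ^ f % 4 = 3 := by
      obtain ⟨m, rfl⟩ := hf
      rw [pow_succ, pow_mul, Nat.mul_mod, Nat.pow_mod]
      norm_num
    rw [hF] at h
    have hg : Nat.gcd 2 (3 ^ f - 1) = 2 := Nat.gcd_eq_left (by omega)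
    rw [hg] at h
    obtain ⟨m, hm⟩ : ∃ m, 3 ^ f = 4 * m + 3 := ⟨3 ^ f / 4, by omega⟩
    rw [hm, show 4 * m + 3 - 1 = 2 * (2 * m + 1) by omega] at h
    rw [Nat.odd_iff, show Nat.card (BP (F := F)) = (4 * m + 3) * (2 * m + 1) by nlinarith]
    norm_num [Nat.mul_mod, Nat.add_mod]
  have hcent : ∀ u ∈ (upGroup : Subgroup (PSL(2, F))), u ≠ 1 → ∀ g, Commute g u → g ∈ upGroup := by
    rintro _ ⟨v, rfl⟩ hu1 g hg
    obtain ⟨v', rfl⟩ := exists_eq_u_of_comm (w := v) (fun e => hu1 (e ▸ u_zero)) hg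
    exact ⟨v', rfl⟩
  have hsyl : ∀ Q : Subgroup (PSL(2, F)), IsPGroup 3 Q → upGroup ≤ Q → Q = upGroup := by
    intro Q hQ hle
    refine le_antisymm (fun q hq => ?_) hle
    haveI := hQ.isNilpotent
    by_contra hqU
    have hne : upGroup.subgroupOf Q < ⊤ :=
      lt_top_iff_ne_top.2 fun e => hqU (subgroupOf_eq_top.1 e hq)
    obtain ⟨⟨n, hnQ⟩, hn, hnU⟩ := SetLike.exists_of_lt
      (Group.normalizerCondition_of_isNilpotent _ hne)
    have hnB : n ∈ BP := by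
      rw [← hnorm]
      exact mem_normalizer_fintype fun y hy => mem_subgroupOf.1
        ((mem_normalizer_iff.1 hn ⟨y, hle hy⟩).1 (mem_subgroupOf.2 hy))
    obtain ⟨k, hk⟩ := hQ ⟨n, hnQ⟩
    have hk' : n ^ 3 ^ k = 1 := by simpa using congrArg Subtype.val hk
    have hc1 : chi n = 1 := by
      have h1 : chi n ^ 3 ^ k = 1 := by rw [← hchiPow hnB, hk', chi_one]
      have h2 : (chi n - 1) ^ 3 ^ k = 0 := by rw [sub_pow_char_pow, h1, one_pow, sub_self]
      exact sub_eq_zero.1 (eq_zero_of_pow_eq_zero h2)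
    obtain ⟨v, hv⟩ := eq_u_of_chi_eq_one hnB hc1
    exact hnU (mem_subgroupOf.2 ⟨v, hv.symm⟩)
  refine ⟨hcardU, ?_, ?_, hcent, hnorm ▸ hodd, hsyl, hnorm.symm ▸ hxB, hxord, ?_,
    hnorm.symm ▸ hwB, hsw, hwx, ?_, ?_, ?_⟩
  · rintro _ ⟨v, rfl⟩
    rw [pow_succ, pow_two, ← u_add, ← u_add]
    have : v + v + v = 0 := by
      rw [show v + v + v = (3 : F) * v by ring, show (3 : F) = ((3 : ℕ) : F) by norm_num,
        CharP.cast_eq_zero, zero_mul]
    rw [this, u_zero]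
  · rintro _ ⟨v, rfl⟩ _ ⟨v', rfl⟩
    show u v * u v' = u v' * u v
    rw [← u_add, add_comm, u_add]
  · intro g hg hgl
    rw [hnorm] at hg
    obtain ⟨v, hv⟩ := hgl
    have h1 : chi g ^ ℓ = 1 := by rw [← hchiPow hg, ← hv, chi_u]
    have hprim : IsPrimitiveRoot (((a ^ 2 : Fˣ) : F)) ℓ := by
      rw [← ha2]
      exact (IsPrimitiveRoot.orderOf (a ^ 2)).map_of_injective Units.coeHom_injective
    obtain ⟨i, -, hi⟩ := hprim.eq_pow_of_pow_eq_one h1
    have hxi : x ^ i ∈ BP := pow_mem hxB i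
    have h2 : chi ((x ^ i)⁻¹ * g) = 1 := by
      have h3 := chi_mul ((x ^ i)) (mul_mem (inv_mem hxi) hg)
      rw [mul_inv_cancel_left, hchiPow hxB, hchi, hi] at h3
      exact (mul_eq_left₀ (chi_ne_zero hg)).1 h3.symm
    obtain ⟨v', hv'⟩ := eq_u_of_chi_eq_one (mul_mem (inv_mem hxi) hg) h2
    rw [inv_mul_eq_iff_eq_mul] at hv'
    rw [hv']
    exact mul_mem (mem_sup_right (pow_mem (mem_zpowers x) i)) (mem_sup_left ⟨v', rfl⟩)
  · intro k hk
    have hkx : k * x * k⁻¹ = x := by rw [hk.eq, mul_inv_cancel_right]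
    have hkT : k ∈ torus x := by
      rcases mem_or_inverts hxT (n := k) (by rw [hkx]; exact self_mem_torus x) with h | ⟨-, h⟩
      · exact h
      · have hh := h x (self_mem_torus x)
        rw [hkx] at hh
        have h2 : x ^ 2 = 1 := by rw [pow_two]; exact mul_eq_one_iff_eq_inv.2 hh
        have := hxord ▸ orderOf_dvd_of_pow_eq_one h2
        exact absurd ((Nat.prime_dvd_prime_iff_eq hℓ Nat.prime_two).1 this) hℓ2
    refine ⟨hnorm.symm ▸ torus_le_BP hxT hxB hkT, ?_⟩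
    rcases mem_or_inverts hxT (n := w) (hwx.symm ▸ inv_mem (self_mem_torus x)) with h | ⟨-, h⟩
    · exact absurd h hwT
    · exact h k hkT
  · intro g hg
    rw [hnorm] at hg
    refine ⟨u (DicksonPSL2.slope g), ⟨_, rfl⟩, (u (DicksonPSL2.slope g) * w)⁻¹ * g, ?_, by group⟩
    rw [hnorm]
    have hm : u (DicksonPSL2.slope g) * w ∉ BP := fun h => hwB ((mul_mem_cancel_left (u_mem_BP _)).1 h)
    refine inv_mul_mem_BP_of_slope hm hg ?_
    rw [slope_u_mul hwB, hw, slope_proj]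
    simp [sw]
  · intro K hle g hgK hg
    obtain ⟨Q, hQ⟩ := (IsPGroup.of_card (n := f) hcardU : IsPGroup 3
      (upGroup : Subgroup (PSL(2, F)))).exists_le_sylow
    have hQeq := hsyl _ Q.isPGroup' hQ
    exact (PSL2Borel.sylow_borel F hF Q).2 K g (hQeq.le.trans hle) hgK (hQeq.symm ▸ hg)

end CfsgLib.Walter.FieldThree
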