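import Cfsg.Agent.Walter.FieldThree.Hyper

/-!
# A fixed point free element of prime order on a `p`-group; endomorphisms of a cyclic module commute
-/

set_option autoImplicit false
set_option linter.style.haveILetI false
set_option linter.unusedSectionVars false

open Subgroup

namespace CfsgLib.Walter.FieldThree

variable {X : Type*} [Group X] [Finite X] {p r f : ℕ} {x : X}

theorem card_modEq_one (hr : r.Prime) (hxr : x ^ r = 1) {W : Subgroup X}
    (hxW : x ∈ normalizer (W : Set X)) (hfx : fixed W (zpowers x) = ⊥) :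
    Nat.card W % r = 1 % r := by
  classical
  haveI := Fact.mk hr
  haveI := Fintype.ofFinite W
  let e : Equiv.Perm W :=
    { toFun := fun w => ⟨x * w * x⁻¹, (mem_normalizer_iff.1 hxW w).1 w.2⟩
      invFun := fun w => ⟨x⁻¹ * w * x, by simpa using (mem_normalizer_iff.1 (inv_mem hxW) w).1 w.2⟩
      left_inv := fun w => Subtype.ext (by group)
      right_inv := fun w => Subtype.ext (by group) }
  have hpow : ∀ (n : ℕ) (w : W), ((e ^ n) w : X) = x ^ n * w * (x ^ n)⁻¹ := by
    intro n
    induction n with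
    | zero => simp
    | succ n ih =>
      intro w
      rw [pow_succ', Equiv.Perm.mul_apply, pow_succ']
      show x * ((e ^ n) w : X) * x⁻¹ = _
      rw [ih]
      group
  have he : e ^ r ^ 1 = 1 := Equiv.ext fun w => Subtype.ext (by rw [pow_one, hpow, hxr]; simp)
  have hfix : ∀ w : W, e w = w ↔ w = 1 := by
    intro w
    constructor
    · intro h
      have h' : x * w * x⁻¹ = (w : X) := congrArg Subtype.val h
      have hw : (w : X) ∈ fixed W (zpowers x) := ⟨w.2, mem_centralizer_iff.2 fun g hg => by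
        obtain ⟨j, rfl⟩ := mem_zpowers_iff.1 hg
        exact ((show Commute x (w : X) from mul_inv_eq_iff_eq_mul.1 h').zpow_left j).eq⟩
      rw [hfx, mem_bot] at hw
      exact Subtype.ext hw
    · rintro rfl
      exact Subtype.ext (show x * ((1 : W) : X) * x⁻¹ = _ by simp)
  have h := Equiv.Perm.card_compl_support_modEq (σ := e) he
  have hs : e.supportᶜ = {1} := by
    ext w
    simp [hfix w]
  rw [hs, Finset.card_singleton, ← Nat.card_eq_fintype_card] at h
  exact h.symm

variable (hr : r.Prime) (hord : orderOf (p : ZMod r) = f) (hxr : x ^ r = 1) {W : Subgroup X}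
  (hxW : x ∈ normalizer (W : Set X)) (hfx : fixed W (zpowers x) = ⊥)
include hr hord hxr hxW hfx

theorem dvd_exponent {d : ℕ} (hd : Nat.card W = p ^ d) : f ∣ d := by
  rw [← hord]
  refine orderOf_dvd_of_pow_eq_one ?_
  rw [← Nat.cast_pow, ← hd, ← Nat.cast_one, ZMod.natCast_eq_natCast_iff']
  exact card_modEq_one hr hxr hxW hfx

theorem card_eq_of_invariant (hp : p.Prime) (hne : W ≠ ⊥) (hdvd : Nat.card W ∣ p ^ f) :
    Nat.card W = p ^ f := by
  obtain ⟨d, hdf, hd⟩ := (Nat.dvd_prime_pow hp).1 hdvd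
  have h := dvd_exponent hr hord hxr hxW hfx hd
  rcases Nat.eq_zero_or_pos d with h0 | h0
  · exact absurd (card_eq_one.1 (by rw [hd, h0, pow_zero])) hne
  · rw [hd, le_antisymm hdf (Nat.le_of_dvd h0 h)]

end CfsgLib.Walter.FieldThree

namespace CfsgLib.Walter.FieldThree

variable {X : Type*} [Group X] [Finite X]

/-- Endomorphisms of a module generated by the orbit of one element commute. -/
theorem conj_comm_of_cyclic {U : Subgroup X} (hUc : IsMulCommutative U) {a u g h : X} (hu : u ∈ U)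
    (ha : a ∈ normalizer (U : Set X))
    (hgen : U ≤ closure (Set.range fun n : ℕ => a ^ n * u * (a ^ n)⁻¹))
    (hg : g ∈ normalizer (U : Set X)) (hh : h ∈ normalizer (U : Set X))
    (hga : ∀ v ∈ U, g * (a * v * a⁻¹) * g⁻¹ = a * (g * v * g⁻¹) * a⁻¹)
    (hha : ∀ v ∈ U, h * (a * v * a⁻¹) * h⁻¹ = a * (h * v * h⁻¹) * a⁻¹) :
    ∀ v ∈ U, g * (h * v * h⁻¹) * g⁻¹ = h * (g * v * g⁻¹) * h⁻¹ := by
  letI : CommGroup U := { (inferInstance : Group U) with mul_comm := hUc.is_comm.comm }
  let c : (y : X) → y ∈ normalizer (U : Set X) → U →* U := fun y hy =>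
    { toFun := fun w => ⟨y * w * y⁻¹, (mem_normalizer_iff.1 hy w).1 w.2⟩
      map_one' := Subtype.ext (by simp)
      map_mul' := fun v w => Subtype.ext (by simp [mul_assoc]) }
  let P : ℕ → U →* U := fun n => c (a ^ n) (pow_mem ha n)
  let u' : U := ⟨u, hu⟩
  let ev : (U →* U) →* U :=
    { toFun := fun θ => θ u', map_one' := rfl, map_mul' := fun _ _ => rfl }
  let S : Subgroup (U →* U) := closure (Set.range P)
  have hS : h * u * h⁻¹ ∈ (S.map ev).map U.subtype := by
    rw [MonoidHom.map_closure, MonoidHom.map_closure]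
    refine closure_mono ?_ (hgen ((mem_normalizer_iff.1 hh u).1 hu))
    rintro _ ⟨n, rfl⟩
    exact ⟨ev (P n), ⟨P n, ⟨n, rfl⟩, rfl⟩, rfl⟩
  obtain ⟨-, ⟨θ, hθ, rfl⟩, hθu⟩ := hS
  -- members of `S` commute with every map commuting with `a`
  have hcomm : ∀ (y : X) (hy : y ∈ normalizer (U : Set X)),
      (∀ v ∈ U, y * (a * v * a⁻¹) * y⁻¹ = a * (y * v * y⁻¹) * a⁻¹) →
      ∀ v, θ (c y hy v) = c y hy (θ v) := by
    intro y hy hya
    refine Subgroup.closure_induction (k := Set.range P) (p := fun θ _ => ∀ v, θ (c y hy v) = c y hy (θ v))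
      ?_ (by simp) (fun φ ψ _ _ h1 h2 v => by simp [h1, h2]) (fun φ _ h1 v => by simp [h1]) hθ
    rintro _ ⟨n, rfl⟩ v
    refine Subtype.ext ?_
    show a ^ n * (y * (v : X) * y⁻¹) * (a ^ n)⁻¹ = y * (a ^ n * v * (a ^ n)⁻¹) * y⁻¹
    induction n with
    | zero => simp
    | succ n ih =>
      rw [pow_succ', show a * a ^ n * (y * (v : X) * y⁻¹) * (a * a ^ n)⁻¹ =
        a * (a ^ n * (y * (v : X) * y⁻¹) * (a ^ n)⁻¹) * a⁻¹ by group, ih,
        ← hya _ ((mem_normalizer_iff.1 (pow_mem ha n) _).1 v.2)]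
      group
  have hθh : ∀ v : U, θ v = c h hh v := by
    have hle : closure (Set.range fun n : ℕ => a ^ n * u * (a ^ n)⁻¹) ≤
        ((θ / c h hh).ker).map U.subtype := by
      rw [closure_le]
      rintro _ ⟨n, rfl⟩
      refine ⟨P n u', ?_, rfl⟩
      rw [SetLike.mem_coe, MonoidHom.mem_ker, MonoidHom.div_apply, div_eq_one]
      have hu1 : θ u' = c h hh u' := Subtype.ext hθu
      rw [show θ (P n u') = P n (θ u') from hcomm (a ^ n) (pow_mem ha n)
        (fun v _ => by group) u', hu1]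
      refine Subtype.ext ?_
      show a ^ n * (h * u * h⁻¹) * (a ^ n)⁻¹ = h * (a ^ n * u * (a ^ n)⁻¹) * h⁻¹
      clear hθu hu1
      induction n with
      | zero => simp
      | succ n ih =>
        rw [pow_succ', show a * a ^ n * (h * u * h⁻¹) * (a * a ^ n)⁻¹ =
          a * (a ^ n * (h * u * h⁻¹) * (a ^ n)⁻¹) * a⁻¹ by group, ih,
          ← hha _ ((mem_normalizer_iff.1 (pow_mem ha n) _).1 hu)]
        group
    intro v
    obtain ⟨v', hv', e⟩ := hle (hgen v.2)
    rw [Subtype.ext e] at hv'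
    exact div_eq_one.1 hv'
  intro v hv
  have e := hcomm g hg hga ⟨v, hv⟩
  rw [hθh, hθh] at e
  exact (congrArg Subtype.val e).symm

end CfsgLib.Walter.FieldThree
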