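import Cfsg.Agent.S1324
import Cfsg.Agent.Coprime.PTimesQ

/-!
# An elementary abelian group acting coprimely on an abelian group: averages over hyperplanes

`avg K v` is the product of the `K`-conjugates of `v`. It separates the fixed groups of different hyperplanes
modulo the fixed group of the whole group, so a fixed point free element of prime order permuting the
hyperplanes fixes those which have fixed points.
-/

set_option autoImplicit false
set_option linter.style.haveILetI false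
set_option linter.unusedSectionVars false

open Subgroup

namespace CfsgLib.Walter.FieldThree

variable {X : Type*} [Group X] [Finite X]

/-- The fixed points of `A` in `V`. -/
abbrev fixed (V A : Subgroup X) : Subgroup X := V ⊓ centralizer (A : Set X)

/-- `K` is a maximal subgroup of the elementary abelian `r`-group `A`. -/
structure IsHyp (r : ℕ) (A K : Subgroup X) : Prop where
  le : K ≤ A
  ne : K ≠ A
  dvd : Nat.card A ∣ r * Nat.card K

theorem IsHyp.sup_eq {r : ℕ} (hr : r.Prime) {A K K' : Subgroup X} (hK : IsHyp r A K)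
    (hK' : IsHyp r A K') (hne : K' ≠ K) : K ⊔ K' = A := by
  have hle : K ⊔ K' ≤ A := sup_le hK.le hK'.le
  refine Subgroup.eq_of_le_of_card_ge hle ?_
  obtain ⟨m, hm⟩ := Subgroup.card_dvd_of_le (le_sup_left : K ≤ K ⊔ K')
  have hd : Nat.card (K ⊔ K' : Subgroup X) ∣ r * Nat.card K := (Subgroup.card_dvd_of_le hle).trans hK.dvd
  rw [hm, mul_comm r] at hd
  rcases (Nat.dvd_prime hr).1 (Nat.dvd_of_mul_dvd_mul_left Nat.card_pos hd) with h1 | h1
  · exfalso
    rw [h1, mul_one] at hm
    have heq : K ⊔ K' = K := (Subgroup.eq_of_le_of_card_ge le_sup_left hm.le).symm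
    have h' : K' ≤ K := le_sup_right.trans heq.le
    refine hK.ne ?_
    rcases eq_or_lt_of_le h' with e | e
    · exact absurd e hne
    · exfalso
      obtain ⟨m', hm'⟩ := Subgroup.card_dvd_of_le h'
      have hd' : Nat.card K ∣ r * Nat.card K' := (Subgroup.card_dvd_of_le hK.le).trans hK'.dvd
      rw [hm', mul_comm r] at hd'
      rcases (Nat.dvd_prime hr).1 (Nat.dvd_of_mul_dvd_mul_left Nat.card_pos hd') with h2 | h2
      · rw [h2, mul_one] at hm'
        exact e.ne (Subgroup.eq_of_le_of_card_ge h' hm'.le)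
      · refine hK.ne (Subgroup.eq_of_le_of_card_ge hK.le ?_)
        exact Nat.le_of_dvd Nat.card_pos (hK'.dvd.trans (by rw [hm', h2, mul_comm]))
  · exact Nat.le_of_dvd Nat.card_pos (hK.dvd.trans (by rw [hm, h1, mul_comm]))

theorem IsHyp.sup_zpowers {r : ℕ} (hr : r.Prime) {A K : Subgroup X} (hK : IsHyp r A K) {a : X}
    (ha : a ∈ A) (haK : a ∉ K) : K ⊔ zpowers a = A := by
  have hle : K ⊔ zpowers a ≤ A := sup_le hK.le (zpowers_le.2 ha)
  refine eq_of_le_of_card_ge hle ?_
  obtain ⟨m, hm⟩ := Subgroup.card_dvd_of_le (le_sup_left : K ≤ K ⊔ zpowers a)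
  have hd : Nat.card (K ⊔ zpowers a : Subgroup X) ∣ r * Nat.card K :=
    (Subgroup.card_dvd_of_le hle).trans hK.dvd
  rw [hm, mul_comm r] at hd
  rcases (Nat.dvd_prime hr).1 (Nat.dvd_of_mul_dvd_mul_left Nat.card_pos hd) with h1 | h1
  · rw [h1, mul_one] at hm
    exact absurd ((eq_of_le_of_card_ge le_sup_left hm.le).ge (mem_sup_right (mem_zpowers a))) haK
  · exact Nat.le_of_dvd Nat.card_pos (hK.dvd.trans (by rw [hm, h1, mul_comm]))

section avg

variable {V : Subgroup X}

/-- The product of the conjugates by the members of `K`. -/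
noncomputable def avg (V K : Subgroup X) (v : X) : X := by
  classical
  exact if h : IsMulCommutative V ∧ K ≤ normalizer (V : Set X) ∧ v ∈ V then
    letI : CommGroup V := { (inferInstance : Group V) with mul_comm := h.1.is_comm.comm }
    letI : Fintype K := Fintype.ofFinite K
    ((∏ k : K, (⟨(k : X) * v * (k : X)⁻¹, (mem_normalizer_iff.1 (h.2.1 k.2) v).1 h.2.2⟩ : V) : V) : X)
  else 1

variable (hVc : IsMulCommutative V) {K : Subgroup X} (hK : K ≤ normalizer (V : Set X))
include hVc hK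

theorem avg_mem {v : X} (hv : v ∈ V) : avg V K v ∈ V := by
  rw [avg, dif_pos ⟨hVc, hK, hv⟩]
  exact SetLike.coe_mem _

theorem avg_mul {v w : X} (hv : v ∈ V) (hw : w ∈ V) : avg V K (v * w) = avg V K v * avg V K w := by
  letI : CommGroup V := { (inferInstance : Group V) with mul_comm := hVc.is_comm.comm }
  letI : Fintype K := Fintype.ofFinite K
  rw [avg, dif_pos ⟨hVc, hK, mul_mem hv hw⟩, avg, dif_pos ⟨hVc, hK, hv⟩, avg, dif_pos ⟨hVc, hK, hw⟩,
    ← Subgroup.coe_mul, ← Finset.prod_mul_distrib]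
  congr 1
  refine Finset.prod_congr rfl fun k _ => Subtype.ext ?_
  simp only [Subgroup.coe_mul]
  group

theorem avg_of_fixed {v : X} (hv : v ∈ fixed V K) : avg V K v = v ^ Nat.card K := by
  letI : CommGroup V := { (inferInstance : Group V) with mul_comm := hVc.is_comm.comm }
  letI : Fintype K := Fintype.ofFinite K
  have hv' : v ∈ V := hv.1
  rw [avg, dif_pos ⟨hVc, hK, hv'⟩]
  have h : ∀ k : K, (⟨(k : X) * v * (k : X)⁻¹, (mem_normalizer_iff.1 (hK k.2) v).1 hv'⟩ : V) = ⟨v, hv'⟩ :=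
    fun k => Subtype.ext (show (k : X) * v * (k : X)⁻¹ = v by
      rw [mem_centralizer_iff.1 hv.2 k k.2, mul_inv_cancel_right])
  rw [Finset.prod_congr rfl fun k _ => h k, Finset.prod_const, Finset.card_univ,
    ← Nat.card_eq_fintype_card, Subgroup.coe_pow]

/-- Conjugation by a normaliser of `K`. -/
theorem avg_conj {g : X} (hgV : g ∈ normalizer (V : Set X)) (hgK : g ∈ normalizer (K : Set X)) {v : X}
    (hv : v ∈ V) : g * avg V K v * g⁻¹ = avg V K (g * v * g⁻¹) := by
  letI : CommGroup V := { (inferInstance : Group V) with mul_comm := hVc.is_comm.comm }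
  letI : Fintype K := Fintype.ofFinite K
  have hv' := (mem_normalizer_iff.1 hgV v).1 hv
  rw [avg, dif_pos ⟨hVc, hK, hv⟩, avg, dif_pos ⟨hVc, hK, hv'⟩]
  let c : V →* V :=
    { toFun := fun w => ⟨g * (w : X) * g⁻¹, (mem_normalizer_iff.1 hgV _).1 w.2⟩
      map_one' := Subtype.ext (by simp)
      map_mul' := fun a b => Subtype.ext (by simp only [Subgroup.coe_mul]; group) }
  let σ : K ≃ K :=
    { toFun := fun k => ⟨g * (k : X) * g⁻¹, (mem_normalizer_iff.1 hgK _).1 k.2⟩
      invFun := fun k => ⟨g⁻¹ * (k : X) * g, by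
        have h := (mem_normalizer_iff.1 hgK (g⁻¹ * (k : X) * g)).2
        refine h ?_
        simp [mul_assoc]⟩
      left_inv := fun k => Subtype.ext (by group)
      right_inv := fun k => Subtype.ext (by group) }
  show (c (∏ k : K, _) : X) = _
  rw [map_prod, ← σ.prod_comp (fun k : K =>
    (⟨(k : X) * (g * v * g⁻¹) * (k : X)⁻¹, (mem_normalizer_iff.1 (hK k.2) _).1 hv'⟩ : V))]
  congr 1
  refine Finset.prod_congr rfl fun k _ => Subtype.ext ?_
  simp only [c, σ, MonoidHom.coe_mk, OneHom.coe_mk, Equiv.coe_fn_mk]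
  group

theorem avg_fixedBy {v : X} (hv : v ∈ V) : avg V K v ∈ fixed V K := by
  refine ⟨avg_mem hVc hK hv, mem_centralizer_iff.2 fun g hg => ?_⟩
  letI : CommGroup V := { (inferInstance : Group V) with mul_comm := hVc.is_comm.comm }
  letI : Fintype K := Fintype.ofFinite K
  suffices h : g * avg V K v * g⁻¹ = avg V K v by
    exact mul_inv_eq_iff_eq_mul.1 h
  have hgV := hK hg
  rw [avg, dif_pos ⟨hVc, hK, hv⟩]
  let c : V →* V :=
    { toFun := fun w => ⟨g * (w : X) * g⁻¹, (mem_normalizer_iff.1 hgV _).1 w.2⟩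
      map_one' := Subtype.ext (by simp)
      map_mul' := fun a b => Subtype.ext (by simp only [Subgroup.coe_mul]; group) }
  show (c (∏ k : K, _) : X) = _
  rw [map_prod]
  refine congrArg Subtype.val (Fintype.prod_equiv (Equiv.mulLeft (⟨g, hg⟩ : K)) _ _ fun k => Subtype.ext ?_)
  simp only [c, MonoidHom.coe_mk, OneHom.coe_mk, Equiv.coe_mulLeft, Subgroup.coe_mul]
  group

end avg

variable {p r : ℕ} {V A : Subgroup X}

theorem mem_fixed_of_pow {v : X} (hr : r.Prime) (hp : p.Prime) (hrp : r ≠ p)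
    (hV : ∀ w ∈ V, w ^ p = 1) (hv : v ∈ V) {K : Subgroup X} (hKr : IsPGroup r K) {B : Subgroup X}
    (h : v ^ Nat.card K ∈ fixed V B) : v ∈ fixed V B := by
  haveI := Fact.mk hr
  obtain ⟨n, hn⟩ := IsPGroup.iff_card.1 hKr
  have hcop : (Nat.card K).Coprime p := hn ▸ ((Nat.coprime_primes hr hp).2 hrp).pow_left n
  obtain ⟨m, hm⟩ := exists_pow_eq_self_of_coprime
    (x := v) (n := Nat.card K) (hcop.coprime_dvd_right (orderOf_dvd_of_pow_eq_one (hV v hv)))
  rw [← hm]
  exact pow_mem h m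

/-- Hyperplanes separate. -/
theorem avg_mem_fixed (hVc : IsMulCommutative V) (hAc : IsMulCommutative A) (hr : r.Prime)
    (hAV : A ≤ normalizer (V : Set X)) {K K' : Subgroup X} (hK : IsHyp r A K) (hK' : IsHyp r A K')
    (hne : K' ≠ K) {v : X} (hv : v ∈ fixed V K') : avg V K v ∈ fixed V A := by
  have hKV := hK.le.trans hAV
  refine ⟨avg_mem hVc hKV hv.1, ?_⟩
  have hAA : A ≤ centralizer (A : Set X) := le_centralizer_iff_isMulCommutative.2 hAc
  have hsub : A ≤ centralizer ({avg V K v} : Set X) := by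
    rw [← hK.sup_eq hr hK' hne]
    refine sup_le (fun k hk => mem_centralizer_singleton_iff.2 ?_) fun k hk => mem_centralizer_singleton_iff.2 ?_
    · exact mem_centralizer_iff.1 (avg_fixedBy hVc hKV hv.1).2 k hk
    · have hkK : k ∈ normalizer (K : Set X) :=
        centralizer_le_normalizer _ (centralizer_le (SetLike.coe_subset_coe.2 hK.le) (hAA (hK'.le hk)))
      have h := avg_conj hVc hKV (hAV (hK'.le hk)) hkK hv.1
      rw [mem_centralizer_iff.1 hv.2 k hk, mul_inv_cancel_right] at h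
      exact mul_inv_eq_iff_eq_mul.1 h
  exact mem_centralizer_iff.2 fun a ha => mem_centralizer_singleton_iff.1 (hsub ha)

/-- A hyperplane with fixed points not fixed by all of `A`. -/
def Supp (r : ℕ) (V A K : Subgroup X) : Prop :=
  IsHyp r A K ∧ ¬ fixed V K ≤ fixed V A

omit [Finite X] in
theorem conj_mem_of_normalizer {H : Subgroup X} {g h : X} (hg : g ∈ normalizer (H : Set X))
    (hh : h ∈ H) : g * h * g⁻¹ ∈ H :=
  (mem_normalizer_iff.1 hg h).1 hh

omit [Finite X] in
theorem map_conj_eq {H : Subgroup X} {g : X} (hg : g ∈ normalizer (H : Set X)) :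
    H.map (MulAut.conj g).toMonoidHom = H :=
  mem_normalizer_iff_map_conj_eq.1 hg

omit [Finite X] in
theorem map_fixed (g : X) (hg : g ∈ normalizer (V : Set X)) (K : Subgroup X) :
    (fixed V K).map (MulAut.conj g).toMonoidHom =
      fixed V (K.map (MulAut.conj g).toMonoidHom) := by
  ext w
  simp only [mem_map, mem_inf, mem_centralizer_iff, MulEquiv.coe_toMonoidHom, MulAut.conj_apply,
    SetLike.mem_coe]
  constructor
  · rintro ⟨v, ⟨hv, hc⟩, rfl⟩
    refine ⟨conj_mem_of_normalizer hg hv, ?_⟩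
    rintro _ ⟨k, hk, rfl⟩
    rw [← MulAut.conj_apply, ← MulAut.conj_apply, ← map_mul, ← map_mul, hc k hk]
  · rintro ⟨hw, hc⟩
    refine ⟨g⁻¹ * w * g, ⟨by simpa using conj_mem_of_normalizer (inv_mem hg) hw, fun k hk => ?_⟩,
      by group⟩
    calc k * (g⁻¹ * w * g) = g⁻¹ * (g * k * g⁻¹ * w) * g := by group
      _ = g⁻¹ * (w * (g * k * g⁻¹)) * g := by rw [hc _ ⟨k, hk, rfl⟩]
      _ = g⁻¹ * w * g * k := by group

theorem IsHyp.map {g : X} (hg : g ∈ normalizer (A : Set X)) {K : Subgroup X} (hK : IsHyp r A K) :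
    IsHyp r A (K.map (MulAut.conj g).toMonoidHom) := by
  have hA := map_conj_eq hg
  refine ⟨hA ▸ map_mono hK.le, fun e => hK.ne ?_, ?_⟩
  · exact map_injective (MulAut.conj g).injective (e.trans hA.symm)
  · rw [card_map_of_injective (MulAut.conj g).injective]
    exact hK.dvd

theorem Supp.map {g : X} (hgV : g ∈ normalizer (V : Set X)) (hg : g ∈ normalizer (A : Set X))
    {K : Subgroup X} (hK : Supp r V A K) : Supp r V A (K.map (MulAut.conj g).toMonoidHom) := by
  refine ⟨hK.1.map hg, fun h => hK.2 ?_⟩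
  rw [← map_fixed g hgV, ← map_conj_eq hg, ← map_fixed g hgV] at h
  exact (map_le_map_iff_of_injective (MulAut.conj g).injective).1 h

variable (hr : r.Prime) (hA : Cfsg.IsElementaryAbelian r A)
include hr hA

theorem isPGroup_of_elem : IsPGroup r A := fun a => ⟨1, Subtype.ext (by simpa using hA.2 a a.2)⟩

variable (hp : p.Prime) (hrp : r ≠ p) (hVc : IsMulCommutative V) (hV : ∀ w ∈ V, w ^ p = 1)
  (hAV : A ≤ normalizer (V : Set X))
include hp hrp hVc hV hAV

theorem not_dvd_card : ¬ r ∣ Nat.card V := by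
  haveI := Fact.mk hp
  have hVp : IsPGroup p V := fun v => ⟨1, Subtype.ext (by simpa using hV v v.2)⟩
  obtain ⟨n, hn⟩ := IsPGroup.iff_card.1 hVp
  rw [hn]
  exact fun h => hrp ((Nat.prime_dvd_prime_iff_eq hr hp).1 (hr.dvd_of_dvd_pow h))

/-- `V` is generated by the fixed groups of `A` and of its hyperplanes. -/
theorem mem_centralizer_of_supp {c : X} (h0 : ∀ v ∈ fixed V A, Commute c v)
    (h : ∀ K, Supp r V A K → ∀ v ∈ fixed V K, Commute c v) :
    c ∈ centralizer (V : Set X) := by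
  haveI := Fact.mk hr
  suffices hle : V ≤ centralizer ({c} : Set X) by
    exact mem_centralizer_iff.2 fun v hv => mem_centralizer_singleton_iff.1 (hle hv)
  have hC : ∀ B : Subgroup X, B ≤ A → Nat.card A ∣ r * Nat.card B →
      fixed V B ≤ centralizer ({c} : Set X) := by
    intro B hB hd v hv
    refine mem_centralizer_singleton_iff.2 (Eq.symm ?_)
    by_cases he : B = A
    · exact h0 v (he ▸ hv)
    · by_cases hs : fixed V B ≤ fixed V A
      · exact h0 v (hs hv)
      · exact h B ⟨⟨hB, he, hd⟩, hs⟩ v hv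
  by_cases hA2 : r ^ 2 ≤ Nat.card A
  · rw [Cfsg.Agent.S1324.result r A V hA hA2 (not_dvd_card hr hA hp hrp hVc hV hAV) hAV]
    refine iSup_le fun B => hC B B.2.1 ?_
    obtain ⟨n, hn⟩ := IsPGroup.iff_card.1 (isPGroup_of_elem hr hA)
    have hd : (B : Subgroup X).relIndex A ∣ r ^ n := hn ▸ relIndex_dvd_card _ _
    obtain ⟨m, -, hm⟩ := (Nat.dvd_prime_pow hr).1 hd
    have hm1 : m ≤ 1 := (Nat.pow_le_pow_iff_right hr.one_lt).1 (by simpa [hm] using B.2.2)
    have e := relIndex_mul_relIndex (⊥ : Subgroup X) B A bot_le B.2.1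
    rw [relIndex_bot_left, relIndex_bot_left] at e
    rw [← e, mul_comm, hm]
    exact mul_dvd_mul_right ((pow_dvd_pow r hm1).trans (pow_one r).dvd) _
  · refine fun v hv => hC ⊥ bot_le ?_ ⟨hv, mem_centralizer_iff.2 fun k hk => ?_⟩
    · obtain ⟨n, hn⟩ := IsPGroup.iff_card.1 (isPGroup_of_elem hr hA)
      have hn1 : n ≤ 1 := by
        by_contra hn1
        exact hA2 (hn ▸ Nat.pow_le_pow_right hr.pos (by omega))
      rw [hn, card_bot, mul_one]
      exact (pow_dvd_pow r hn1).trans (pow_one r).dvd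
    · rw [SetLike.mem_coe, mem_bot] at hk
      rw [hk, one_mul, mul_one]

/-- `avg K` separates: it is injective on `fixed V K` modulo `fixed V A`. -/
theorem mem_fixed_of_avg {K : Subgroup X} (hK : K ≤ A) {v : X} (hv : v ∈ fixed V K)
    (h : avg V K v ∈ fixed V A) : v ∈ fixed V A := by
  rw [avg_of_fixed hVc (hK.trans hAV) hv] at h
  exact mem_fixed_of_pow hr hp hrp hV hv.1 ((isPGroup_of_elem hr hA).to_le hK) h

variable {x : X} (hx : orderOf x = r) (hxA : x ∈ normalizer (A : Set X))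
  (hxV : x ∈ normalizer (V : Set X)) (hfx : fixed V (zpowers x) = ⊥)
include hx hxA hxV hfx

/-- A fixed point free element of order `r` fixes the supporting hyperplanes. -/
theorem normalizer_of_supp {K : Subgroup X} (hK : Supp r V A K) :
    x ∈ normalizer (K : Set X) := by
  classical
  letI : CommGroup V := { (inferInstance : Group V) with mul_comm := hVc.is_comm.comm }
  haveI := Fact.mk hr
  by_contra hne
  obtain ⟨v, hv, hv'⟩ := SetLike.not_le_iff_exists.1 hK.2
  let c : ℕ → X →* X := fun i => (MulAut.conj (x ^ i)).toMonoidHom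
  have hcv : ∀ i, c i v ∈ fixed V (K.map (c i)) := fun i => by
    rw [← map_fixed (x ^ i) (pow_mem hxV i) K]
    exact ⟨v, hv, rfl⟩
  let w : Fin r → V := fun i => ⟨c i v, (hcv i).1⟩
  have hKi : ∀ i : ℕ, K.map (c i) = K → r ∣ i := by
    intro i hi
    by_contra hd
    refine hne ?_
    have hm : x ^ i ∈ normalizer (K : Set X) := mem_normalizer_iff_map_conj_eq.2 hi
    obtain ⟨j, hj⟩ := exists_pow_eq_self_of_coprime (x := x) (n := i)
      (by rw [hx]; exact ((hr.coprime_iff_not_dvd).2 hd).symm)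
    exact hj ▸ pow_mem hm j
  have hprod : (∏ i, w i : V) = 1 := by
    suffices h : ((∏ i, w i : V) : X) ∈ fixed V (zpowers x) by
      rw [hfx, mem_bot] at h
      exact Subtype.ext h
    refine ⟨SetLike.coe_mem _, ?_⟩
    refine mem_centralizer_iff.2 ?_
    have hfix : x * ((∏ i, w i : V) : X) * x⁻¹ = ((∏ i, w i : V) : X) := by
      let e : V →* V :=
        { toFun := fun u => ⟨x * u * x⁻¹, conj_mem_of_normalizer hxV u.2⟩
          map_one' := Subtype.ext (by simp)
          map_mul' := fun a b => Subtype.ext (by simp [mul_assoc]) }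
      show ((e (∏ i, w i) : V) : X) = _
      rw [map_prod]
      haveI : NeZero r := ⟨hr.ne_zero⟩
      refine congrArg Subtype.val (Fintype.prod_equiv (Equiv.addRight (1 : Fin r)) _ _ fun i => ?_)
      refine Subtype.ext ?_
      show x * (x ^ (i : ℕ) * v * (x ^ (i : ℕ))⁻¹) * x⁻¹ =
        x ^ ((i + 1 : Fin r) : ℕ) * v * (x ^ ((i + 1 : Fin r) : ℕ))⁻¹
      have hpow : x ^ ((i + 1 : Fin r) : ℕ) = x ^ ((i : ℕ) + 1) := by
        rw [pow_eq_pow_iff_modEq, hx, Fin.val_add, Fin.val_one', Nat.add_mod_mod]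
        exact Nat.mod_modEq _ _
      rw [hpow, pow_succ']
      group
    intro g hg
    obtain ⟨j, rfl⟩ := mem_zpowers_iff.1 hg
    exact ((show Commute x ((∏ i, w i : V) : X) from mul_inv_eq_iff_eq_mul.1 hfix).zpow_left j).eq
  have hKV := hK.1.le.trans hAV
  let f : V →* V :=
    { toFun := fun u => ⟨avg V K u, avg_mem hVc hKV u.2⟩
      map_one' := Subtype.ext (by
        simpa using avg_of_fixed hVc hKV (one_mem (fixed V K)))
      map_mul' := fun a b => Subtype.ext (avg_mul hVc hKV a.2 b.2) }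
  haveI : NeZero r := ⟨hr.ne_zero⟩
  have hrest : ∀ i : Fin r, i ≠ 0 → (f (w i) : X) ∈ fixed V A := by
    intro i hi
    refine avg_mem_fixed hVc hA.1 hr hAV hK.1 (hK.1.map (pow_mem hxA i)) ?_ (hcv i)
    intro e
    have h := Nat.eq_zero_of_dvd_of_lt (hKi i e) i.isLt
    exact hi (Fin.ext h)
  have h1 := congrArg f hprod
  rw [map_prod, map_one, ← Finset.mul_prod_erase Finset.univ _ (Finset.mem_univ (0 : Fin r))] at h1
  have h0 : (f (w 0) : X) ∈ fixed V A := by
    have hm : f (w 0) ∈ (fixed V A).subgroupOf V := by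
      rw [eq_inv_of_mul_eq_one_left h1]
      refine inv_mem (prod_mem fun i hi => ?_)
      exact mem_subgroupOf.2 (hrest i (Finset.ne_of_mem_erase hi))
    exact mem_subgroupOf.1 hm
  have he : (f (w 0) : X) = avg V K v := by simp [f, w, c]
  exact hv' (mem_fixed_of_avg hr hA hp hrp hVc hV hAV hK.1.le hv (he ▸ h0))

omit hp hrp hVc hV hAV hxV hfx in
theorem commutator_mem_of_normalizer {K : Subgroup X} (hK : IsHyp r A K)
    (hxK : x ∈ normalizer (K : Set X)) {a : X} (ha : a ∈ A) : a * x * a⁻¹ * x⁻¹ ∈ K := by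
  haveI := Fact.mk hr
  have hAA := le_centralizer_iff_isMulCommutative.2 hA.1
  by_cases haK : a ∈ K
  · have h := mul_mem haK (conj_mem_of_normalizer hxK (inv_mem haK))
    simpa [mul_assoc] using h
  have hkA : ∀ k ∈ K, ∀ b ∈ A, Commute k b := fun k hk b hb =>
    (mem_centralizer_iff.1 (hAA (hK.le hk)) b hb).symm
  have hsup : K ⊔ zpowers a = A := hK.sup_zpowers hr ha haK
  have har : a ^ r = 1 := hA.2 a ha
  have hnA : zpowers a ≤ normalizer (K : Set X) := zpowers_le.2
    (centralizer_le_normalizer _ (centralizer_le (SetLike.coe_subset_coe.2 hK.le) (hAA ha)))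
  obtain ⟨k₀, hk₀, b, hb, hkb⟩ := Coprime.exists_mul_of_mem_sup hnA
    (hsup.ge (conj_mem_of_normalizer hxA ha))
  obtain ⟨i, rfl⟩ := mem_zpowers_iff.1 hb
  have key : ∀ n : ℕ, ∃ k ∈ K, x ^ n * a * (x ^ n)⁻¹ = k * a ^ (i ^ n) := by
    intro n
    induction n with
    | zero => exact ⟨1, one_mem _, by simp⟩
    | succ n ih =>
      obtain ⟨k, hk, e⟩ := ih
      refine ⟨x * k * x⁻¹ * k₀ ^ (i ^ n), mul_mem (conj_mem_of_normalizer hxK hk) (zpow_mem hk₀ _), ?_⟩
      calc x ^ (n + 1) * a * (x ^ (n + 1))⁻¹ = x * (x ^ n * a * (x ^ n)⁻¹) * x⁻¹ := by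
            rw [pow_succ']; group
        _ = x * k * x⁻¹ * (x * a * x⁻¹) ^ (i ^ n) := by rw [e, conj_zpow]; group
        _ = x * k * x⁻¹ * k₀ ^ (i ^ n) * a ^ (i ^ (n + 1)) := by
            rw [← hkb, (hkA k₀ hk₀ _ (zpow_mem ha i)).mul_zpow, ← zpow_mul, pow_succ']
            simp only [mul_assoc]
  obtain ⟨k, hk, e⟩ := key r
  rw [show x ^ r = 1 from hx ▸ pow_orderOf_eq_one x] at e
  have hdiv : (r : ℤ) ∣ i ^ r - 1 := by
    by_contra hd
    have hmem : a ^ (i ^ r - 1) ∈ K := by
      have h1 : a ^ (i ^ r - 1) = k⁻¹ := by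
        rw [zpow_sub, zpow_one]
        refine mul_inv_eq_iff_eq_mul.2 ?_
        rw [eq_inv_mul_iff_mul_eq]
        simpa using e.symm
      exact h1 ▸ inv_mem hk
    obtain ⟨u, v, huv⟩ := (Prime.coprime_iff_not_dvd (Nat.prime_iff_prime_int.1 hr)).2 hd
    have h1 : a = (a ^ (r : ℤ)) ^ u * (a ^ (i ^ r - 1)) ^ v := by
      rw [← zpow_mul, ← zpow_mul, ← zpow_add, mul_comm (r : ℤ) u, mul_comm (i ^ r - 1) v, huv, zpow_one]
    rw [zpow_natCast, har, one_zpow, one_mul] at h1
    exact haK (h1 ▸ zpow_mem hmem v)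
  have hi1 : (r : ℤ) ∣ i - 1 := by
    rw [← ZMod.intCast_zmod_eq_zero_iff_dvd] at hdiv ⊢
    push_cast at hdiv ⊢
    rwa [ZMod.pow_card] at hdiv
  have hai : a ^ i = a := by
    obtain ⟨m, hm⟩ := hi1
    rw [show i = 1 + (r : ℤ) * m by omega, zpow_add, zpow_one, zpow_mul, zpow_natCast, har, one_zpow,
      mul_one]
  rw [hai] at hkb
  have h2 : a * x * a⁻¹ * x⁻¹ = a * (x * a * x⁻¹)⁻¹ := by group
  rw [h2, ← hkb, mul_inv_rev, ← mul_assoc, mul_inv_cancel, one_mul]
  exact inv_mem hk₀

/-- A fixed point free element of order `r` centralizes `A` modulo the kernel of the action. -/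
theorem commutator_mem_centralizer {a : X} (ha : a ∈ A) :
    a * x * a⁻¹ * x⁻¹ ∈ centralizer (V : Set X) := by
  have hcA : a * x * a⁻¹ * x⁻¹ ∈ A := by
    have h := mul_mem ha (conj_mem_of_normalizer hxA (inv_mem ha))
    simpa [mul_assoc] using h
  refine mem_centralizer_of_supp hr hA hp hrp hVc hV hAV
    (fun v hv => mem_centralizer_iff.1 hv.2 _ hcA) fun K hK v hv => ?_
  exact mem_centralizer_iff.1 hv.2 _ (commutator_mem_of_normalizer hr hA hx hxA hK.1
    (normalizer_of_supp hr hA hp hrp hVc hV hAV hx hxA hxV hfx hK) ha)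

end CfsgLib.Walter.FieldThree
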