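import Cfsg.Agent.Walter.Basic
import Cfsg.Agent.Walter.FieldThree.Borel
import Cfsg.Agent.Walter.FieldThree.Cyclic
import Cfsg.Agent.GW.OSType.Action
import Cfsg.Agent.RegularLinear.Basic
import Cfsg.Agent.Coprime.SchurZassenhaus

/-!
# Local facts at an involution with component `PSL₂(3^f)`
-/

set_option autoImplicit false
set_option linter.style.haveILetI false
set_option linter.unusedSectionVars false

open Subgroup
open scoped Pointwise

namespace CfsgLib.Walter.FieldThree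

universe u

/-- `C(t) ⊇ ⟨t⟩ × L`, `L` with the Borel data. -/
structure LocSetting {G : Type u} [Group G] (t : G) (L : Subgroup G) (U : Subgroup L) (x w : L)
    (f ℓ : ℕ) : Prop where
  min : Minimal G
  inv : orderOf t = 2
  le : L ≤ centralizer ({t} : Set G)
  nor : centralizer ({t} : Set G) ≤ normalizer (L : Set G)
  notMem : t ∉ L
  cent : centralizer (L : Set G) ⊓ centralizer ({t} : Set G) = zpowers t
  odd_index : Odd ((L ⊔ zpowers t).relIndex (centralizer ({t} : Set G)))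
  prime : ℓ.Prime
  ne_three : ℓ ≠ 3
  ord : orderOf (3 : ZMod ℓ) = f
  odd_f : Odd f
  borel : BorelData U x w f ℓ

variable {G : Type u} [Group G]

/-- `U` in the group. -/
abbrev UG {L : Subgroup G} (U : Subgroup L) : Subgroup G := U.map L.subtype

/-- The Borel normalizer in `C(t)`. -/
abbrev NB {L : Subgroup G} (t : G) (U : Subgroup L) : Subgroup G :=
  centralizer ({t} : Set G) ⊓ normalizer (UG U : Set G)

theorem orderOf_pow_three {u : G} {k : ℕ} (h : u ^ 3 ^ k = 1) : Odd (orderOf u) :=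
  ((Nat.odd_iff.2 rfl : Odd 3).pow).of_dvd_nat (orderOf_dvd_of_pow_eq_one h)

theorem eq_one_of_sq_of_odd {u : G} (ho : Odd (orderOf u)) (h : u * u = 1) : u = 1 := by
  rw [← orderOf_eq_one_iff]
  exact Nat.eq_one_of_dvd_coprimes (Nat.coprime_two_right.2 ho) dvd_rfl
    (orderOf_dvd_of_pow_eq_one (by rw [pow_two]; exact h))

theorem exists_half {u : G} (ho : Odd (orderOf u)) : ∃ m : ℕ, (u ^ 2) ^ m = u :=
  exists_pow_eq_self_of_coprime (Nat.coprime_two_left.2 ho)

variable [Finite G] {t : G} {L : Subgroup G} {U : Subgroup L} {x w : L} {f ℓ : ℕ}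
  (h : LocSetting t L U x w f ℓ)
include h

namespace LocSetting

theorem commute_t {y : G} (hy : y ∈ centralizer ({t} : Set G)) : Commute t y :=
  (mem_centralizer_singleton_iff.1 hy).symm

theorem mem_cent {y : G} (hy : Commute t y) : y ∈ centralizer ({t} : Set G) :=
  mem_centralizer_singleton_iff.2 hy.eq.symm

theorem t_sq : t * t = 1 := Small.mul_self_of_orderOf_two h.inv

theorem t_inv : t⁻¹ = t := inv_eq_of_mul_eq_one_left h.t_sq

theorem t_L (l : L) : Commute t (l : G) := h.commute_t (h.le l.2)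

theorem conj_L {y : G} (hy : Commute t y) {l : G} (hl : l ∈ L) : y * l * y⁻¹ ∈ L :=
  (mem_normalizer_iff.1 (h.nor (h.mem_cent hy)) l).1 hl

theorem isPGroup_U : IsPGroup 3 U := fun u => ⟨1, Subtype.ext (by simpa using h.borel.pow u u.2)⟩

theorem U_ne_bot : U ≠ ⊥ := fun e => by
  have := h.borel.card_U
  rw [e, card_bot] at this
  exact absurd this.symm (Nat.one_lt_pow h.odd_f.pos.ne' (by norm_num)).ne'

theorem card_UG : Nat.card (UG U) = 3 ^ f := by
  rw [card_map_of_injective L.subtype_injective, h.borel.card_U]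

/-- The involutions of `C(t)` lie in `L × ⟨t⟩`. -/
theorem decomp_involution {s : G} (hs : Commute t s) (hs2 : s * s = 1) :
    ∃ l : L, l * l = 1 ∧ (s = l ∨ s = l * t) := by
  set M := L ⊔ zpowers t with hM
  set C := centralizer ({t} : Set G) with hC
  haveI : (M.subgroupOf C).Normal := by
    refine (normal_subgroupOf_iff_le_normalizer (sup_le h.le (zpowers_le.2 (h.mem_cent (Commute.refl t))))).2 ?_
    intro c hc
    refine normalizer_inf_normalizer_le_normalizer_sup _ _ ⟨h.nor hc, centralizer_le_normalizer _ ?_⟩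
    exact mem_centralizer_iff.2 fun z hz => by
      obtain ⟨i, rfl⟩ := mem_zpowers_iff.1 hz
      exact ((h.commute_t hc).zpow_left i).eq
  have hmem : (⟨s, h.mem_cent hs⟩ : C) ∈ M.subgroupOf C := by
    rw [← QuotientGroup.eq_one_iff, ← orderOf_eq_one_iff]
    have ho : Odd (Nat.card (C ⧸ M.subgroupOf C)) := h.odd_index
    refine Nat.eq_one_of_dvd_coprimes (Nat.coprime_two_right.2 ho) (orderOf_dvd_natCard _)
      (orderOf_dvd_of_pow_eq_one ?_)
    rw [← QuotientGroup.mk_pow, show (⟨s, h.mem_cent hs⟩ : C) ^ 2 = 1 from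
      Subtype.ext (by simpa [pow_two] using hs2), QuotientGroup.mk_one]
  obtain ⟨l, hl, z, hz, rfl⟩ := Coprime.exists_mul_of_mem_sup (N := L) (H := zpowers t)
    ((zpowers_le.2 (h.mem_cent (Commute.refl t))).trans h.nor) (mem_subgroupOf.1 hmem)
  have hzl : Commute z l := by
    obtain ⟨i, rfl⟩ := mem_zpowers_iff.1 hz
    exact (h.t_L ⟨l, hl⟩).zpow_left i
  have hz1 : z = 1 ∨ z = t := by
    obtain ⟨i, rfl⟩ := mem_zpowers_iff.1 hz
    rcases Int.even_or_odd i with ⟨j, rfl⟩ | ⟨j, rfl⟩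
    · left; rw [← two_mul, zpow_mul, zpow_two, h.t_sq, one_zpow]
    · right; rw [zpow_add, zpow_mul, zpow_two, h.t_sq, one_zpow, one_mul, zpow_one]
  have hz2 : z * z = 1 := by rcases hz1 with rfl | rfl; · simp
                             · exact h.t_sq
  refine ⟨⟨l, hl⟩, Subtype.ext ?_, ?_⟩
  · show l * l = 1
    calc l * l = l * l * (z * z) := by rw [hz2, mul_one]
      _ = l * z * (l * z) := by rw [mul_assoc, mul_assoc, ← mul_assoc z l z, hzl.eq, mul_assoc l z z]
      _ = 1 := hs2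
  · rcases hz1 with rfl | rfl
    · exact Or.inl (mul_one l)
    · exact Or.inr rfl

/-- A 3-subgroup is in a conjugate of `U`. -/
theorem exists_conj_mem (u : L) {k : ℕ} (hu : u ^ 3 ^ k = 1) : ∃ g : L, g⁻¹ * u * g ∈ U := by
  haveI : Fact (Nat.Prime 3) := ⟨Nat.prime_three⟩
  obtain ⟨S, hS⟩ := h.isPGroup_U.exists_le_sylow
  have hSU := h.borel.sylow _ S.isPGroup' hS
  obtain ⟨T, hT⟩ := (IsPGroup.of_card_dvd_pow (n := k)
    (by rw [Nat.card_zpowers]; exact orderOf_dvd_of_pow_eq_one hu) :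
      IsPGroup 3 (zpowers u)).exists_le_sylow
  obtain ⟨g, hg⟩ := MulAction.exists_smul_eq L S T
  refine ⟨g, hSU ▸ ?_⟩
  have hm : u ∈ ((g • S : Sylow 3 L) : Subgroup L) := hg.symm ▸ hT (mem_zpowers u)
  rw [Sylow.coe_subgroup_smul, Coprime.mem_conj_smul] at hm
  exact hm

theorem mem_U_of_pow {v : L} (hv : v ∈ normalizer (U : Set L)) {k : ℕ} (hpow : v ^ 3 ^ k = 1) :
    v ∈ U := by
  haveI : Fact (Nat.Prime 3) := ⟨Nat.prime_three⟩
  have hp : IsPGroup 3 (zpowers v) := IsPGroup.of_card_dvd_pow (n := k)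
    (by rw [Nat.card_zpowers]; exact orderOf_dvd_of_pow_eq_one hpow)
  exact (h.borel.sylow _ (h.isPGroup_U.to_sup_of_normal_left' hp (zpowers_le.2 hv)) le_sup_left).le
    (mem_sup_right (mem_zpowers v))

/-- An involution of `L` inverts no element of 3-power order. -/
theorem no_invert_L {l v : L} (hl : l * l = 1) {k : ℕ} (hv : v ^ 3 ^ k = 1)
    (hinv : l * v * l⁻¹ = v⁻¹) : v = 1 := by
  obtain ⟨g, hg⟩ := h.exists_conj_mem v hv
  by_contra hv1
  set v' := g⁻¹ * v * g
  set l' := g⁻¹ * l * g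
  have hv1' : v' ≠ 1 := fun e => hv1 (by
    calc v = g * v' * g⁻¹ := by simp only [v']; group
      _ = 1 := by rw [e, mul_one, mul_inv_cancel])
  have he : l' * v' * l'⁻¹ = v'⁻¹ := by
    calc l' * v' * l'⁻¹ = g⁻¹ * (l * v * l⁻¹) * g := by simp only [l', v']; group
      _ = v'⁻¹ := by rw [hinv]; simp only [v']; group
  have hn : l' ∈ normalizer (U : Set L) := mem_normalizer_fintype fun y hy => by
    refine h.borel.cent v'⁻¹ (inv_mem hg) (inv_ne_one.2 hv1') _ ?_
    have := (h.borel.comm y hy v' hg).map (MulAut.conj l').toMonoidHom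
    simpa [he] using this
  have ho : Odd (orderOf l') := h.borel.odd.of_dvd_nat
    ((normalizer (U : Set L)).orderOf_dvd_natCard hn)
  have hl' : l' = 1 := eq_one_of_sq_of_odd ho (by
    rw [show l' * l' = g⁻¹ * (l * l) * g by simp only [l']; group, hl, mul_one, inv_mul_cancel])
  rw [hl', one_mul, inv_one, mul_one] at he
  exact hv1' (eq_one_of_sq_of_odd (orderOf_pow_three (k := 1) (by rw [pow_one]; exact h.borel.pow v' hg))
    (mul_eq_one_iff_eq_inv.2 he))

/-- No involution of `C(t)` inverts an element of 3-power order of `C(t)`. -/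
theorem no_invert {s v : G} (hs : Commute t s) (hs2 : s * s = 1) (hv : Commute t v) {k : ℕ}
    (hpow : v ^ 3 ^ k = 1) (hinv : s * v * s⁻¹ = v⁻¹) : v = 1 := by
  obtain ⟨l, hl, hsl⟩ := h.decomp_involution hs hs2
  have hl' : (l : G) * v * (l : G)⁻¹ = v⁻¹ := by
    rcases hsl with rfl | rfl
    · exact hinv
    · rw [show (l : G) * t * v * ((l : G) * t)⁻¹ = l * (t * v * t⁻¹) * (l : G)⁻¹ by group, hv.eq,
        mul_inv_cancel_right] at hinv
      exact hinv
  have hv2 : v ^ 2 ∈ L := by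
    have e : v * (l : G) * v⁻¹ * (l : G)⁻¹ = v ^ 2 := by
      rw [show v * (l : G) * v⁻¹ * (l : G)⁻¹ = v * ((l : G) * v * (l : G)⁻¹)⁻¹ by group, hl', inv_inv,
        pow_two]
    exact e ▸ mul_mem (h.conj_L hv l.2) (inv_mem l.2)
  obtain ⟨m, hm⟩ := exists_half (orderOf_pow_three hpow)
  have hvL : v ∈ L := hm ▸ pow_mem hv2 m
  exact congrArg Subtype.val (h.no_invert_L (v := ⟨v, hvL⟩) hl (k := k)
    (Subtype.ext (by simpa using hpow)) (Subtype.ext hl'))

/-- The same at every involution. -/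
theorem no_invert_all {a s v : G} (ha : orderOf a = 2) (hs : Commute a s) (hs2 : s * s = 1)
    (hv : Commute a v) {k : ℕ} (hpow : v ^ 3 ^ k = 1) (hinv : s * v * s⁻¹ = v⁻¹) : v = 1 := by
  obtain ⟨g, hg⟩ := isConj_iff.1 (h.min.isConj h.inv ha)
  let c := (MulAut.conj g⁻¹)
  have hca : c a = t := by rw [← hg]; simp [c, mul_assoc]
  have h1 : Commute t (c s) := hca ▸ hs.map c
  have h2 : Commute t (c v) := hca ▸ hv.map c
  have := h.no_invert (k := k) h1 (by rw [← map_mul, hs2, map_one]) h2 (by rw [← map_pow, hpow, map_one])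
    (by rw [← map_inv, ← map_mul, ← map_mul, hinv, map_inv])
  exact (map_eq_one_iff c c.injective).1 this

/-- An involution commuting with `c` centralizes the elements of a 3-group fixed by `c`. -/
theorem commute_of_fixed {D : Subgroup G} (hD : IsPGroup 3 D) {b c a : G} (hc : orderOf c = 2)
    (hb : b * b = 1) (hbc : Commute c b) (hbD : b ∈ normalizer (D : Set G)) (ha : a ∈ D)
    (hca : Commute c a) : Commute b a := by
  set y := a * (b * a⁻¹ * b⁻¹) with hy
  have hyD : y ∈ D := mul_mem ha ((mem_normalizer_iff.1 hbD _).1 (inv_mem ha))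
  have hbi : b⁻¹ = b := inv_eq_of_mul_eq_one_left hb
  obtain ⟨k, hk⟩ := hD ⟨y, hyD⟩
  have hy1 : y = 1 := h.no_invert_all hc hbc hb
    (hca.mul_right ((hbc.mul_right hca.inv_right).mul_right hbc.inv_right))
    (k := k) (by simpa using congrArg Subtype.val hk) (by
      rw [hy, show b * (a * (b * a⁻¹ * b⁻¹)) * b⁻¹ = b * a * (b * a⁻¹) * (b⁻¹ * b⁻¹) by group, hbi, hb,
        mul_one]
      calc b * a * (b * a⁻¹) = (a * b⁻¹ * a⁻¹ * b⁻¹)⁻¹ := by group
        _ = _ := by simp [hbi, mul_assoc])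
  rw [hy, ← mul_assoc, ← mul_assoc, mul_inv_eq_one, mul_inv_eq_iff_eq_mul] at hy1
  exact hy1.symm

/-- A four-group normalizing a 3-subgroup centralizes it. -/
theorem le_centralizer_of_four {D : Subgroup G} (hD : IsPGroup 3 D) {s : G} (hs : orderOf s = 2)
    (hts : Commute t s) (hne : s ≠ t) (htD : t ∈ normalizer (D : Set G))
    (hsD : s ∈ normalizer (D : Set G)) : ∀ a ∈ D, Commute t a ∧ Commute s a := by
  have hs2 := Small.mul_self_of_orderOf_two hs
  have hts2 : orderOf (t * s) = 2 := by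
    refine Small.orderOf_eq_two_iff_sq.2 ⟨fun e => hne ?_, ?_⟩
    · rw [← inv_eq_of_mul_eq_one_right e, h.t_inv]
    · rw [mul_assoc, ← mul_assoc s, ← hts.eq, mul_assoc t s s, hs2, mul_one, h.t_sq]
  have hodd : Odd (Nat.card D) := by
    haveI : Fact (Nat.Prime 3) := ⟨Nat.prime_three⟩
    obtain ⟨n, hn⟩ := IsPGroup.iff_card.1 hD
    exact hn ▸ (Nat.odd_iff.2 rfl : Odd 3).pow
  have hle : D ≤ centralizer ({t} : Set G) ⊓ centralizer ({s} : Set G) := by
    refine GW.OS.le_of_four h.inv hs hts hne hodd htD hsD ?_ ?_ ?_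
    · exact fun a ha hc => ⟨h.mem_cent hc, mem_centralizer_singleton_iff.2
        (h.commute_of_fixed hD h.inv hs2 hts hsD ha hc).eq.symm⟩
    · exact fun a ha hc => ⟨h.mem_cent (h.commute_of_fixed hD hs h.t_sq hts.symm htD ha hc),
        mem_centralizer_singleton_iff.2 hc.eq.symm⟩
    · exact fun a ha hc => ⟨h.mem_cent (h.commute_of_fixed hD hts2 h.t_sq
          ((Commute.refl t).mul_left hts.symm) htD ha hc),
        mem_centralizer_singleton_iff.2 (h.commute_of_fixed hD hts2 hs2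
          (hts.mul_left (Commute.refl s)) hsD ha hc).eq.symm⟩
  exact fun a ha => ⟨h.commute_t (hle ha).1, (mem_centralizer_singleton_iff.1 (hle ha).2).symm⟩

/-- A subgroup whose only involution commuting with `t` is `t` has a normal odd complement. -/
theorem exists_odd_complement (H : Subgroup G) (htH : t ∈ H)
    (hinv : ∀ s ∈ H, Commute t s → s * s = 1 → s = 1 ∨ s = t) :
    ∃ O : Subgroup G, O ≤ H ∧ Odd (Nat.card O) ∧ t ∉ O ∧ H ≤ normalizer (O : Set G) ∧
      O ⊔ zpowers t = H ∧ ∀ y ∈ H, Odd (orderOf y) → y ∈ O := by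
  haveI : Fact (Nat.Prime 2) := ⟨Nat.prime_two⟩
  have htp : IsPGroup 2 (zpowers (⟨t, htH⟩ : H)) :=
    IsPGroup.of_card (n := 1) (by rw [Nat.card_zpowers, Subgroup.orderOf_mk, h.inv, pow_one])
  obtain ⟨T, hT⟩ := htp.exists_le_sylow
  have hTeq : (T : Subgroup H) = zpowers (⟨t, htH⟩ : H) := by
    refine le_antisymm (fun y hy => ?_) hT
    obtain ⟨S, hS⟩ := (T.isPGroup'.map H.subtype).exists_le_sylow
    have hyS : (y : G) ∈ (S : Subgroup G) := hS ⟨y, hy, rfl⟩
    have htS : t ∈ (S : Subgroup G) := hS ⟨⟨t, htH⟩, hT (mem_zpowers _), rfl⟩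
    rcases hinv y y.2 (h.min.sylow_comm S htS hyS) (h.min.sq S _ hyS) with e | e
    · rw [show y = 1 from Subtype.ext e]; exact one_mem _
    · rw [show y = ⟨t, htH⟩ from Subtype.ext e]; exact mem_zpowers _
  have hTcard : Nat.card (T : Subgroup H) = 2 := by
    rw [hTeq, Nat.card_zpowers, Subgroup.orderOf_mk, h.inv]
  haveI : IsCyclic (T : Subgroup H) := isCyclic_of_prime_card hTcard
  obtain ⟨N, hN, hN2⟩ := RegLinear.exists_index_two_of_cyclic_sylow T
    (hTcard ▸ (T : Subgroup H).card_subgroup_dvd_card)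
  have hNodd : Odd (Nat.card N) := by
    rw [Nat.odd_iff]
    by_contra hc
    apply T.not_dvd_index
    have h1 := N.card_mul_index
    rw [hN2, ← (T : Subgroup H).card_mul_index, hTcard, mul_comm] at h1
    rw [← Nat.eq_of_mul_eq_mul_left (by norm_num) h1]
    omega
  have htN : (⟨t, htH⟩ : H) ∉ N := fun hm => by
    have h1 := hNodd.of_dvd_nat (N.orderOf_dvd_natCard hm)
    rw [Subgroup.orderOf_mk, h.inv] at h1
    exact absurd h1 (by decide)
  refine ⟨N.map H.subtype, map_subtype_le _, ?_, ?_, ?_, ?_, ?_⟩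
  · rwa [card_map_of_injective H.subtype_injective]
  · rintro ⟨⟨y, _⟩, hy, rfl⟩
    exact htN hy
  · intro y hy
    refine mem_normalizer_fintype ?_
    rintro _ ⟨n, hn, rfl⟩
    exact ⟨⟨y, hy⟩ * n * ⟨y, hy⟩⁻¹, hN.conj_mem n hn _, rfl⟩
  · refine le_antisymm (sup_le (map_subtype_le _) (zpowers_le.2 htH)) fun y hy => ?_
    by_cases hyN : (⟨y, hy⟩ : H) ∈ N
    · exact mem_sup_left ⟨_, hyN, rfl⟩
    · have hm : (⟨y, hy⟩ : H) * ⟨t, htH⟩ ∈ N :=
        (mul_mem_iff_of_index_two hN2).2 (iff_of_false hyN htN)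
      have := mul_mem (mem_sup_left (T := zpowers t) ⟨_, hm, rfl⟩ : y * t ∈ N.map H.subtype ⊔ zpowers t)
        (mem_sup_right (mem_zpowers t))
      rwa [mul_assoc, h.t_sq, mul_one] at this
  · intro y hy ho
    obtain ⟨m, hm⟩ := exists_half ho
    refine ⟨⟨y, hy⟩, ?_, rfl⟩
    have h2 : (⟨y, hy⟩ : H) ^ 2 ∈ N := hN2 ▸ Subgroup.pow_index_mem N _
    have e : ((⟨y, hy⟩ : H) ^ 2) ^ m = ⟨y, hy⟩ := Subtype.ext (by simpa using hm)
    exact e ▸ pow_mem h2 m

end LocSetting

end CfsgLib.Walter.FieldThree
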