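import Cfsg.Agent.Walter.FieldThree.Reduced
import Cfsg.Agent.Walter.FieldThree.OddModule.Main

/-!
# No field automorphism of 3-power order in an involution centralizer

`mem_of_three`: if `C(t) ⊇ ⟨t⟩ × L`, `L ≅ PSL₂(3^f)`, in a minimal counterexample, the elements of 3-power
order of `C(t)` are in `L`.
-/

set_option autoImplicit false
set_option linter.style.haveILetI false
set_option linter.unusedSectionVars false

open Subgroup
open scoped Pointwise MatrixGroups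

namespace CfsgLib.Walter.FieldThree

universe u

theorem BorelData.map_equiv {L L' : Type*} [Group L] [Group L'] [Finite L] (e : L ≃* L') {U : Subgroup L}
    {x w : L} {f ℓ : ℕ} (h : BorelData U x w f ℓ) :
    BorelData (U.map e.toMonoidHom) (e x) (e w) f ℓ := by
  have hN : ∀ g, e g ∈ normalizer (U.map e.toMonoidHom : Set L') ↔ g ∈ normalizer (U : Set L) := fun g => by
    rw [← map_equiv_normalizer_eq]
    exact ⟨fun ⟨g', hg', he⟩ => e.injective he ▸ hg', fun hg => ⟨g, hg, rfl⟩⟩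
  have hU : ∀ g, e g ∈ U.map e.toMonoidHom ↔ g ∈ U := fun g =>
    ⟨fun ⟨g', hg', he⟩ => e.injective he ▸ hg', fun hg => ⟨g, hg, rfl⟩⟩
  refine ⟨?_, ?_, ?_, ?_, ?_, ?_, (hN x).2 h.x_mem, ?_, ?_, fun hw => h.w_notMem ((hN w).1 hw), ?_, ?_,
    ?_, ?_, ?_⟩
  · rw [card_map_of_injective e.injective]; exact h.card_U
  · rintro _ ⟨u, hu, rfl⟩; rw [← map_pow, h.pow u hu, map_one]
  · rintro _ ⟨u, hu, rfl⟩ _ ⟨v, hv, rfl⟩; exact (h.comm u hu v hv).map e.toMonoidHom
  · rintro _ ⟨u, hu, rfl⟩ hu1 g hg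
    obtain ⟨g, rfl⟩ := e.surjective g
    refine (hU g).2 (h.cent u hu (fun e1 => hu1 (by rw [e1, map_one])) g ?_)
    exact e.injective (by rw [map_mul, map_mul]; exact hg.eq)
  · rw [← map_equiv_normalizer_eq, card_map_of_injective e.injective]; exact h.odd
  · intro Q hQ hle
    have := h.sylow (Q.comap e.toMonoidHom) (hQ.comap_of_injective e.toMonoidHom e.injective)
      (map_le_iff_le_comap.1 hle)
    rw [← this, map_comap_eq_self_of_surjective e.surjective]
  · rw [MulEquiv.orderOf_eq, h.x_ord]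
  · intro g hg hgl
    obtain ⟨g, rfl⟩ := e.surjective g
    rw [← map_pow, hU] at hgl
    have := mem_map_of_mem e.toMonoidHom (h.cyc g ((hN g).1 hg) hgl)
    rwa [Subgroup.map_sup, MonoidHom.map_zpowers] at this
  · rw [← map_mul, h.w_sq, map_one]
  · rw [← map_inv, ← map_mul, ← map_mul, h.w_x, map_inv]
  · intro k hk
    obtain ⟨k, rfl⟩ := e.surjective k
    obtain ⟨h1, h2⟩ := h.cx k (e.injective (by rw [map_mul, map_mul]; exact hk.eq))
    exact ⟨(hN k).2 h1, by rw [← map_inv, ← map_mul, ← map_mul, h2, map_inv]⟩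
  · intro g hg
    obtain ⟨g, rfl⟩ := e.surjective g
    obtain ⟨u, hu, b, hb, rfl⟩ := h.bruhat g fun hg' => hg ((hN g).2 hg')
    exact ⟨e u, (hU u).2 hu, e b, (hN b).2 hb, by rw [map_mul, map_mul]⟩
  · intro K hle g hgK hg
    obtain ⟨g, rfl⟩ := e.surjective g
    have := h.gen (K.comap e.toMonoidHom) (map_le_iff_le_comap.1 hle) g hgK fun hg' => hg ((hN g).2 hg')
    rw [← map_comap_eq_self_of_surjective (f := e.toMonoidHom) e.surjective K, this,
      map_top_of_surjective _ e.surjective]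

section Setting

variable {G : Type u} [Group G] [Finite G] {t : G} {L : Subgroup G} {U : Subgroup L} {x w : L} {f ℓ : ℕ}
  (h : LocSetting t L U x w f ℓ)
include h

namespace LocSetting

/-- From an outer element of 3-power order: one normalizing `U` and `⟨x⟩`, not commuting with `x`. -/
theorem exists_phi {y : G} (hy : y ∈ centralizer ({t} : Set G)) {k : ℕ} (hpow : y ^ 3 ^ k = 1)
    (hyL : y ∉ L) : ∃ φ ∈ NB t U, ∃ (a s : ℕ), φ ^ 3 ^ a = 1 ∧
      φ * (x : G) * φ⁻¹ = (x : G) ^ s ∧ (s : ZMod ℓ) ≠ 1 := by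
  haveI : Fact (Nat.Prime 3) := ⟨Nat.prime_three⟩
  set C := centralizer ({t} : Set G) with hC
  haveI : (L.subgroupOf C).Normal := (normal_subgroupOf_iff_le_normalizer h.le).2 h.nor
  have hyLn : y ∈ normalizer (L : Set G) := h.nor hy
  -- an `L`-translate normalizes `U`
  set V := ((UG U).map (MulAut.conj y).toMonoidHom).subgroupOf L with hV
  have hle : (UG U).map (MulAut.conj y).toMonoidHom ≤ L := by
    rintro _ ⟨_, ⟨z, -, rfl⟩, rfl⟩
    exact (mem_normalizer_iff.1 hyLn z).1 z.2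
  have hVc : Nat.card V = 3 ^ f := by
    rw [Nat.card_congr (subgroupOfEquivOfLe hle).toEquiv, card_map_of_injective (MulAut.conj y).injective,
      h.card_UG]
  obtain ⟨S, hS⟩ := h.isPGroup_U.exists_le_sylow
  obtain ⟨T, hT⟩ := (IsPGroup.of_card hVc : IsPGroup 3 V).exists_le_sylow
  obtain ⟨l, hl⟩ := MulAction.exists_smul_eq L S T
  have hSU := h.borel.sylow _ S.isPGroup' hS
  have hTe : (T : Subgroup L) = MulAut.conj l • U := by rw [← hl, Sylow.coe_subgroup_smul, hSU]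
  have hVe : V = MulAut.conj l • U := by
    rw [← hTe]
    exact eq_of_le_of_card_ge hT (by rw [hVc, hTe, Coprime.card_conj_smul, h.borel.card_U])
  have hnU : (l : G)⁻¹ * y ∈ normalizer (UG U : Set G) := by
    refine Coprime.mem_normalizer_iff_conj_smul_eq.2 ?_
    have e : MulAut.conj y • UG U = MulAut.conj (l : G) • UG U := by
      rw [← Coprime.map_subtype_conj_smul, ← hVe, hV, map_subgroupOf_eq_of_le hle]
      rfl
    rw [← Coprime.conj_smul_conj_smul, e, Coprime.conj_smul_conj_smul, inv_mul_cancel, map_one, one_smul]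
  have hlC : (l : G) ∈ C := h.le l.2
  have hnNB : (l : G)⁻¹ * y ∈ NB t U := ⟨C.mul_mem (C.inv_mem hlC) hy, hnU⟩
  obtain ⟨v, hv, j, hj⟩ := h.exists_normalizes_x hnNB
  set m := v * ((l : G)⁻¹ * y) with hm
  have hmNB : m ∈ NB t U := mul_mem (h.UG_le_NB hv) hnNB
  set π := QuotientGroup.mk' (L.subgroupOf C) with hπ
  have hvL : v ∈ L := by obtain ⟨z, -, rfl⟩ := hv; exact z.2
  have hπm : π ⟨m, hmNB.1⟩ = π ⟨y, hy⟩ := by
    have e : (⟨m, hmNB.1⟩ : C) = (⟨v, h.le hvL⟩ * ⟨l, hlC⟩⁻¹) * ⟨y, hy⟩ :=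
      Subtype.ext (by simp [hm, mul_assoc])
    rw [e, map_mul]
    rw [show π (⟨v, h.le hvL⟩ * ⟨(l : G), hlC⟩⁻¹) = 1 from (QuotientGroup.eq_one_iff _).2
      (mem_subgroupOf.2 (L.mul_mem hvL (L.inv_mem l.2))), one_mul]
  set N := orderOf m with hN
  have hN0 : N ≠ 0 := (orderOf_pos m).ne'
  set c := N / 3 ^ N.factorization 3 with hc
  have hcN : 3 ^ N.factorization 3 * c = N := Nat.ordProj_mul_ordCompl_eq_self N 3
  set φ := m ^ c with hφ
  have hφpow : φ ^ 3 ^ N.factorization 3 = 1 := by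
    rw [hφ, ← pow_mul, mul_comm, hcN]; exact pow_orderOf_eq_one m
  have hφx : ∃ s : ℕ, φ * (x : G) * φ⁻¹ = (x : G) ^ s := by
    have hmn : m ∈ normalizer ((zpowers (x : G) : Subgroup G) : Set G) := by
      refine mem_normalizer_fintype fun z hz => ?_
      obtain ⟨i, rfl⟩ := mem_zpowers_iff.1 hz
      show m * (x : G) ^ i * m⁻¹ ∈ _
      rw [← conj_zpow, hm, hj]
      exact zpow_mem (zpow_mem (mem_zpowers _) j) i
    have := (mem_normalizer_iff.1 (pow_mem hmn c) (x : G)).1 (mem_zpowers _)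
    rw [← mem_powers_iff_mem_zpowers] at this
    obtain ⟨s, hs⟩ := this
    exact ⟨s, hs.symm⟩
  obtain ⟨s, hs⟩ := hφx
  refine ⟨φ, pow_mem hmNB c, _, s, hφpow, hs, fun hs1 => hyL ?_⟩
  have hxs : (x : G) ^ s = x := by
    conv_rhs => rw [← pow_one (x : G)]
    rw [pow_eq_pow_iff_modEq, h.orderOf_x, ← ZMod.natCast_eq_natCast_iff, hs1, Nat.cast_one]
  have hφ1 : φ = 1 := h.eq_one_of_three_x hφpow (mul_inv_eq_iff_eq_mul.1 (hs.trans hxs))
  have h1 : π ⟨y, hy⟩ ^ c = 1 := by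
    rw [← hπm, ← map_pow, show (⟨m, hmNB.1⟩ : C) ^ c = 1 from Subtype.ext (by simpa [hφ] using hφ1), map_one]
  have h2 : π ⟨y, hy⟩ ^ 3 ^ k = 1 := by
    rw [← map_pow, show (⟨y, hy⟩ : C) ^ 3 ^ k = 1 from Subtype.ext (by simpa using hpow), map_one]
  have hco : (3 ^ k).Coprime c :=
    ((Nat.Prime.coprime_iff_not_dvd Nat.prime_three).2 (Nat.not_dvd_ordCompl Nat.prime_three hN0)).pow_left k
  have h3 : π ⟨y, hy⟩ = 1 := by
    rw [← orderOf_eq_one_iff]
    exact Nat.eq_one_of_dvd_coprimes hco (orderOf_dvd_of_pow_eq_one h2) (orderOf_dvd_of_pow_eq_one h1)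
  exact mem_subgroupOf.1 ((QuotientGroup.eq_one_iff _).1 h3)

variable {O P : Subgroup G}

/-- The reduced module contradicts the focal property. -/
theorem false_of_phi (n : NormSetting t U O P) {φ : G} (hφN : φ ∈ NB t U) {a s : ℕ}
    (hφp : φ ^ 3 ^ a = 1) (hφx : φ * (x : G) * φ⁻¹ = (x : G) ^ s) (hs : (s : ZMod ℓ) ≠ 1) : False := by
  haveI : Fact (Nat.Prime 3) := ⟨Nat.prime_three⟩
  have hφO : φ ∈ O := n.odd_NB φ hφN (orderOf_pow_three hφp)
  have hxO : (x : G) ∈ O := n.odd_NB _ h.x_mem_NB (h.orderOf_x ▸ h.ell_odd)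
  have hφt : Commute t φ := h.commute_t hφN.1
  set R := R3 O P with hR
  have hRO : R ≤ O := inf_le_right.trans (h.Rc_le n)
  have hRp : IsPGroup 3 R := h.isPGroup_R3 n
  set O0 := O ⊓ normalizer (R : Set G) with hO0
  set M := O ⊔ zpowers t with hM
  set M0 := O0 ⊔ zpowers t with hM0
  set T0 := Tc O ⊓ normalizer (R : Set G) with hT0
  set Φ := (frattini R).map R.subtype with hΦ
  set N0 := T0 ⊔ Φ with hN0
  have hMO : M ≤ normalizer (O : Set G) := sup_le le_normalizer (zpowers_le.2 n.t_norm)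
  have hM0M : M0 ≤ M := sup_le_sup_right inf_le_left _
  have htO0 : t ∈ normalizer (O0 : Set G) :=
    inf_normalizer_le_normalizer_inf ⟨n.t_norm, le_normalizer (h.t_R3 n)⟩
  have hM0R : M0 ≤ normalizer (R : Set G) := sup_le inf_le_right (zpowers_le.2 (h.t_R3 n))
  have hM0O0 : M0 ≤ normalizer (O0 : Set G) := sup_le le_normalizer (zpowers_le.2 htO0)
  have hRO0 : R ≤ O0 := le_inf hRO le_normalizer
  have hT0O0 : T0 ≤ O0 := inf_le_inf_right _ (map_subtype_le _)
  have hΦR : Φ ≤ R := map_subtype_le _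
  have hN0O0 : N0 ≤ O0 := sup_le hT0O0 (hΦR.trans hRO0)
  have hM0T0 : M0 ≤ normalizer (T0 : Set G) := fun y hy => inf_normalizer_le_normalizer_inf
    ⟨h.normalizer_O_le_Tc n (hMO (hM0M hy)), le_normalizer (hM0R hy)⟩
  have hM0Φ : M0 ≤ normalizer (Φ : Set G) := FpfRankTwo73.le_normalizer_map_frattini hM0R
  have hM0N0 : M0 ≤ normalizer (N0 : Set G) := fun y hy =>
    normalizer_inf_normalizer_le_normalizer_sup _ _ ⟨hM0T0 hy, hM0Φ hy⟩
  have hN0M0 : N0 ≤ M0 := hN0O0.trans le_sup_left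
  -- `t`, `x`, `φ` lie in `M₀`
  have hxO0 : (x : G) ∈ O0 := ⟨hxO, h.fixed_R3 n hxO (h.t_L x)⟩
  have hφO0 : φ ∈ O0 := ⟨hφO, h.fixed_R3 n hφO hφt⟩
  have htM0 : t ∈ M0 := mem_sup_right (mem_zpowers t)
  -- facts
  have hΦinf : ∀ r ∈ R, r ∈ N0 → r ∈ Φ := by
    intro r hr hrN
    obtain ⟨τ, hτ, p, hp, rfl⟩ := Coprime.exists_mul_of_mem_sup
      (((hΦR.trans hRO0).trans le_sup_left).trans hM0T0) hrN
    have hτR : τ ∈ R := by
      have := mul_mem hr (inv_mem (hΦR hp))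
      rwa [mul_inv_cancel_right] at this
    rw [(eq_bot_iff_forall _).1 (h.R3_inf_Tc n) τ ⟨hτR, hτ.1⟩, one_mul]
    exact hp
  have hRcO0 : ∀ r ∈ Rc O, r ∈ O0 → ∃ τ ∈ T0, ∃ ρ ∈ R, τ * ρ = r := by
    intro r hr hrO
    rw [h.Rc_eq n] at hr
    obtain ⟨τ, hτ, ρ, hρ, rfl⟩ := Coprime.exists_mul_of_mem_sup
      ((hRO.trans le_normalizer).trans (h.normalizer_O_le_Tc n)) hr
    refine ⟨τ, ⟨hτ, ?_⟩, ρ, hρ, rfl⟩
    have := (normalizer (R : Set G)).mul_mem hrO.2 ((normalizer (R : Set G)).inv_mem (le_normalizer hρ))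
    rwa [mul_inv_cancel_right] at this
  have hN0R : N0 ≤ Rc O := sup_le (inf_le_left.trans (h.Tc_le n)) (hΦR.trans inf_le_right)
  have hfixN0 : ∀ e ∈ N0, Commute t e → e ∈ UG U := fun e he hte => h.fixed_Rc n (hN0R he) hte
  have hT0R : ∀ τ ∈ T0, ∀ r ∈ R, Commute τ r := by
    intro τ hτ r hr
    refine mul_inv_eq_iff_eq_mul.1 (mul_inv_eq_one.1 ?_)
    refine (eq_bot_iff_forall _).1 (h.R3_inf_Tc n) _
      ⟨R.mul_mem ((mem_normalizer_iff.1 hτ.2 r).1 hr) (R.inv_mem hr), ?_⟩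
    have := mul_mem hτ.1 ((mem_normalizer_iff.1 (h.normalizer_O_le_Tc n (le_normalizer (hRO hr))) _).1
      (inv_mem hτ.1))
    simpa [mul_assoc] using this
  -- the quotient
  set N0' := N0.subgroupOf M0 with hN0'
  haveI hN0n : N0'.Normal := (normal_subgroupOf_iff_le_normalizer hN0M0).2 hM0N0
  set π := QuotientGroup.mk' N0' with hπ
  set R' := R.subgroupOf M0 with hR'
  haveI : R'.Normal := (normal_subgroupOf_iff_le_normalizer (hRO0.trans le_sup_left)).2 hM0R
  set O' := O0.subgroupOf M0 with hO'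
  haveI : O'.Normal := (normal_subgroupOf_iff_le_normalizer le_sup_left).2 hM0O0
  have hπeq : ∀ {p q : M0}, π p = π q ↔ (p : G)⁻¹ * q ∈ N0 := fun {p q} => by
    rw [hπ]
    simp [QuotientGroup.eq, hN0', mem_subgroupOf]
  have hπ1 : ∀ {p : M0}, π p = 1 ↔ (p : G) ∈ N0 := fun {p} => by
    rw [hπ]; exact (QuotientGroup.eq_one_iff p).trans mem_subgroupOf
  set X : M0 := ⟨x, mem_sup_left hxO0⟩
  set T : M0 := ⟨t, htM0⟩
  set Ψ : M0 := ⟨φ, mem_sup_left hφO0⟩
  have hxN0 : ∀ i : ℤ, (x : G) ^ i ∈ N0 → (x : G) ^ i = 1 := by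
    intro i hi
    obtain ⟨z, hz, hze⟩ := hfixN0 _ hi ((h.t_L x).zpow_right i)
    refine (eq_bot_iff_forall _).1 h.fix_U _ ⟨⟨z, hz, hze⟩, ?_⟩
    exact mem_centralizer_zpowers.2 ((Commute.refl (x : G)).zpow_right i)
  have hYcard : ∀ e ∈ R, Commute t e → e ∈ UG U := fun e he => h.fixed_Rc n he.2
  have hmem : ∀ q ∈ O'.map π, ∃ o : M0, (o : G) ∈ O0 ∧ π o = q := by
    rintro _ ⟨o, ho, rfl⟩; exact ⟨o, mem_subgroupOf.1 ho, rfl⟩
  have hfixlift : ∀ o : M0, (o : G) ∈ O0 → Commute (π T) (π o) →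
      ∃ c : M0, (c : G) ∈ O0 ∧ Commute t (c : G) ∧ π c = π o := by
    intro o ho hc
    have hm : (o : G)⁻¹ * (t * o * t⁻¹) ∈ N0 := by
      have e : π o = π (T * o * T⁻¹) := by rw [map_mul, map_mul, map_inv, hc.eq, mul_inv_cancel_right]
      simpa [T] using hπeq.1 e
    obtain ⟨c, htc, hcN⟩ := exists_fixed_coset (hM0N0 htM0)
      (by rw [h.inv]; exact Nat.coprime_two_left.2 (n.odd.of_dvd_nat
        (Subgroup.card_dvd_of_le (hN0O0.trans inf_le_left)))) hm
    have hcO : c ∈ O0 := by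
      have := mul_mem ho (hN0O0 hcN)
      rwa [mul_inv_cancel_left] at this
    exact ⟨⟨c, mem_sup_left hcO⟩, hcO, htc, (hπeq.2 hcN).symm⟩
  have hVmem : ∀ o : M0, (o : G) ∈ O0 → (o : G) ∈ Rc O → π o ∈ R'.map π := by
    intro o ho hoR
    obtain ⟨τ, hτ, ρ, hρ, hτρ⟩ := hRcO0 _ hoR ho
    refine ⟨⟨ρ, mem_sup_left (hRO0 hρ)⟩, mem_subgroupOf.2 hρ, ?_⟩
    rw [hπeq]
    show ρ⁻¹ * (o : G) ∈ N0
    rw [← hτρ, (hT0R τ hτ ρ hρ).eq, inv_mul_cancel_left]
    exact mem_sup_left hτ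
  have hbig : ∀ C' : Subgroup M0, [C'.Normal] → C' ≤ O' → (∀ c ∈ C', ∃ k : ℕ, (c : G) ^ 3 ^ k ∈ Rc O) →
      ∀ c ∈ C', (c : G) ∈ Rc O := by
    intro C' hC'n hC' hp c hc
    set CG := C'.map M0.subtype with hCG
    have hCGO : CG ≤ O0 := fun z ⟨z', hz', e⟩ => e ▸ mem_subgroupOf.1 (hC' hz')
    have hTO : Tc O ≤ O := map_subtype_le _
    have hnorm : O ≤ normalizer ((Tc O ⊔ CG : Subgroup G) : Set G) := by
      intro g hg
      obtain ⟨τ, hτ, hτg⟩ := h.exists_Tc_mul n hg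
      have h1 : τ⁻¹ * g ∈ normalizer ((Tc O ⊔ CG : Subgroup G) : Set G) := by
        refine normalizer_inf_normalizer_le_normalizer_sup _ _
          ⟨h.normalizer_O_le_Tc n (le_normalizer hτg.1), mem_normalizer_fintype ?_⟩
        rintro _ ⟨z, hz, rfl⟩
        exact ⟨⟨_, mem_sup_left hτg⟩ * z * ⟨_, mem_sup_left hτg⟩⁻¹, hC'n.conj_mem z hz _, rfl⟩
      have := mul_mem (le_normalizer (mem_sup_left hτ : τ ∈ Tc O ⊔ CG)) h1
      rwa [mul_inv_cancel_left] at this
    refine h.mem_Rc_of_pow n (N := Tc O ⊔ CG) (sup_le hTO (hCGO.trans inf_le_left)) hnorm ?_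
      (mem_sup_right ⟨c, hc, rfl⟩)
    intro y hy
    obtain ⟨τ, hτ, z, hz, rfl⟩ := Coprime.exists_mul_of_mem_sup
      (((hCGO.trans inf_le_left).trans le_normalizer).trans (h.normalizer_O_le_Tc n)) hy
    obtain ⟨z', hz', rfl⟩ := hz
    obtain ⟨k, hk⟩ := hp z' hz'
    obtain ⟨k', hk'⟩ := h.pow_mem_Tc n hk
    rw [← pow_mul, ← pow_add] at hk'
    refine ⟨k + k', ?_⟩
    obtain ⟨τ', hτ', rfl⟩ := hτ
    obtain ⟨z1, hz1, hz1e⟩ := hk'
    set zO : O := ⟨(z' : G), (hCGO ⟨z', hz', rfl⟩).1⟩ with hzO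
    have hz1' : z1 = zO ^ 3 ^ (k + k') := Subtype.ext (by simpa [hzO] using hz1e)
    refine ⟨(τ' * zO) ^ 3 ^ (k + k'), (QuotientGroup.eq_one_iff _).1 ?_, by simp [hzO]⟩
    show QuotientGroup.mk' _ _ = _
    rw [map_pow, map_mul, show QuotientGroup.mk' (Cfsg.pPrimeCore 3 O) τ' = 1 from
      (QuotientGroup.eq_one_iff _).2 hτ', one_mul, ← map_pow, ← hz1']
    exact (QuotientGroup.eq_one_iff _).2 hz1
  have hV : ModSetting (R'.map π) (O'.map π) (π T) (π X) (π Ψ) ℓ f s := by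
    refine
      { prime := h.prime, ne_three := h.ne_three, ord := h.ord, odd_f := h.odd_f
        vNormal := Subgroup.Normal.map inferInstance π (QuotientGroup.mk'_surjective _)
        oNormal := Subgroup.Normal.map inferInstance π (QuotientGroup.mk'_surjective _)
        vComm := ?_, vPow := ?_, v_le := map_mono (subgroupOf_mono _ hRO0), oddO := ?_
        t_notMem := ?_, t_sq := ?_, ker := ?_, core := ?_
        x_mem := ⟨X, mem_subgroupOf.2 hxO0, rfl⟩, x_ord := ?_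
        t_x := (show Commute T X from Subtype.ext (h.t_L x).eq).map π
        fix_x := ?_, fix_t := ?_, norm_x := ?_, uniq := ?_
        phi_mem := ⟨Ψ, mem_subgroupOf.2 hφO0, rfl⟩
        t_phi := (show Commute T Ψ from Subtype.ext hφt.eq).map π
        phi_x := ?_, s_pow := ?_, s_ne := hs }
    · refine ⟨⟨?_⟩⟩
      rintro ⟨_, p, hp, rfl⟩ ⟨_, q, hq, rfl⟩
      refine Subtype.ext ?_
      show π p * π q = π q * π p
      rw [← map_mul, ← map_mul, hπeq]
      refine mem_sup_right ⟨(⟨p, hp⟩ * ⟨q, hq⟩ : R)⁻¹ * (⟨q, hq⟩ * ⟨p, hp⟩), ?_, rfl⟩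
      refine Solvable.commutator_le_frattini hRp ?_
      have := commutator_mem_commutator (H₁ := ⊤) (H₂ := ⊤) (mem_top (⟨q, hq⟩ : R)⁻¹) (mem_top (⟨p, hp⟩ : R)⁻¹)
      rw [_root_.commutator_def]
      simpa [commutatorElement_def, mul_assoc] using this
    · rintro _ ⟨p, hp, rfl⟩
      rw [← map_pow, hπ1]
      exact mem_sup_right ⟨(⟨p, hp⟩ : R) ^ 3, Solvable.pow_mem_frattini hRp _, by simp⟩
    · refine (n.odd.of_dvd_nat ?_).of_dvd_nat (card_map_dvd O' π)
      rw [hO', Nat.card_congr (subgroupOfEquivOfLe (le_sup_left : O0 ≤ M0)).toEquiv]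
      exact Subgroup.card_dvd_of_le inf_le_left
    · rintro ⟨o, ho, hoe⟩
      refine n.t_notMem ?_
      have := O.mul_mem (mem_subgroupOf.1 ho).1 (hN0O0 (hπeq.1 hoe)).1
      rwa [mul_inv_cancel_left] at this
    · rw [← map_mul, hπ1]
      show t * t ∈ N0
      rw [h.t_sq]; exact one_mem _
    · -- the kernel of the action lies in `O_{3',3}`
      haveI : (R'.map π).Normal := Subgroup.Normal.map inferInstance π (QuotientGroup.mk'_surjective _)
      haveI hcn : (centralizer ((R'.map π : Subgroup (M0 ⧸ N0')) : Set (M0 ⧸ N0'))).Normal :=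
        Subgroup.normal_centralizer
      set C0 := (centralizer ((R'.map π : Subgroup (M0 ⧸ N0')) : Set (M0 ⧸ N0'))).comap π ⊓ O' with hC0
      have hC0R : ∀ c ∈ C0, ∀ r ∈ R, (c : G) * r * (c : G)⁻¹ * r⁻¹ ∈ Φ := by
        intro c hc r hr
        have hcR : (c : G) ∈ normalizer (R : Set G) := (mem_subgroupOf.1 hc.2).2
        refine hΦinf _ (R.mul_mem ((mem_normalizer_iff.1 hcR r).1 hr) (R.inv_mem hr)) ?_
        have hr' : π ⟨r, mem_sup_left (hRO0 hr)⟩ ∈ R'.map π := ⟨_, mem_subgroupOf.2 hr, rfl⟩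
        have hcr := mem_centralizer_iff.1 hc.1 _ hr'
        have e : π (c * ⟨r, mem_sup_left (hRO0 hr)⟩ * c⁻¹ * (⟨r, mem_sup_left (hRO0 hr)⟩ : M0)⁻¹) = 1 := by
          simp only [map_mul, map_inv]
          rw [← hcr, mul_inv_cancel_right, mul_inv_cancel]
        simpa using hπ1.1 e
      have hp' : ∀ c ∈ C0, ¬ 3 ∣ orderOf (c : G) → (c : G) ∈ Tc O := by
        intro c hc h3
        have hcO : (c : G) ∈ O := (mem_subgroupOf.1 hc.2).1
        have hcn : zpowers (c : G) ≤ normalizer (R : Set G) := zpowers_le.2 (mem_subgroupOf.1 hc.2).2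
        have hcop : (Nat.card (zpowers (c : G))).Coprime (Nat.card (frattini R)) := by
          obtain ⟨b, hb⟩ := IsPGroup.iff_card.1 (hRp.to_subgroup (frattini R))
          rw [hb, Nat.card_zpowers]
          exact (((Nat.Prime.coprime_iff_not_dvd Nat.prime_three).2 h3).symm).pow_right b
        have hcR : zpowers (c : G) ≤ centralizer (R : Set G) := by
          refine Coprime.le_centralizer_of_commutator_le_frattini hcn hcop (commutator_le.2 fun r hr q hq => ?_)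
          obtain ⟨i, rfl⟩ := mem_zpowers_iff.1 hq
          have h1 := Φ.inv_mem (hC0R _ (zpow_mem hc i) r hr)
          have e : r * (c : G) ^ i * r⁻¹ * ((c : G) ^ i)⁻¹
              = ((c : G) ^ i * r * ((c : G) ^ i)⁻¹ * r⁻¹)⁻¹ := by simp [mul_assoc]
          rw [commutatorElement_def, e]
          rw [Subgroup.coe_zpow] at h1
          exact h1
        have hcRc : (c : G) ∈ Rc O := by
          haveI : Group.IsSolvable O := Cfsg.Agent.S0205.result n.odd
          refine ⟨⟨c, hcO⟩, mem_upperCore_of_commutator fun r hr => ?_, rfl⟩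
          have hr' : (r : G) ∈ Tc O ⊔ R := h.Rc_eq n ▸ ⟨r, hr, rfl⟩
          obtain ⟨τ, hτ, ρ, hρ, e⟩ := Coprime.exists_mul_of_mem_sup
            ((hRO.trans le_normalizer).trans (h.normalizer_O_le_Tc n)) hr'
          have hcρ : Commute (c : G) ρ := (mem_centralizer_iff.1 (hcR (mem_zpowers _)) ρ hρ).symm
          have hm : (c : G) * τ * (c : G)⁻¹ * τ⁻¹ ∈ Tc O :=
            mul_mem ((mem_normalizer_iff.1 (h.normalizer_O_le_Tc n (le_normalizer hcO)) τ).1 hτ) (inv_mem hτ)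
          obtain ⟨z, hz, hze⟩ := hm
          have e2 : (c : G) * (r : G) * (c : G)⁻¹ * (r : G)⁻¹ = (c : G) * τ * (c : G)⁻¹ * τ⁻¹ := by
            rw [← e]
            calc (c : G) * (τ * ρ) * (c : G)⁻¹ * (τ * ρ)⁻¹
                = (c : G) * τ * (c : G)⁻¹ * ((c : G) * ρ * (c : G)⁻¹ * ρ⁻¹) * τ⁻¹ := by group
              _ = _ := by rw [hcρ.eq, mul_inv_cancel_right, mul_inv_cancel, mul_one]
          exact (Subtype.ext (by simpa [e2] using hze) : z = ⟨(c : G), hcO⟩ * r * ⟨(c : G), hcO⟩⁻¹ * r⁻¹) ▸ hz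
        obtain ⟨k, hk⟩ := h.pow_mem_Tc n hcRc
        obtain ⟨m, hm⟩ := exists_pow_eq_self_of_coprime (x := (c : G)) (n := 3 ^ k)
          (((Nat.Prime.coprime_iff_not_dvd Nat.prime_three).2 h3).pow_left k)
        exact hm ▸ pow_mem hk m
      rintro _ ⟨⟨o, ho, rfl⟩, hc⟩
      refine hVmem o (mem_subgroupOf.1 ho) (hbig C0 inf_le_right (fun c hc' => ?_) o ⟨hc, ho⟩)
      set N := orderOf (c : G)
      refine ⟨N.factorization 3, h.Tc_le n ?_⟩
      have hm : ¬ 3 ∣ orderOf ((c ^ 3 ^ N.factorization 3 : M0) : G) := by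
        intro hd
        have hd' : orderOf ((c ^ 3 ^ N.factorization 3 : M0) : G) ∣ N / 3 ^ N.factorization 3 := by
          refine orderOf_dvd_of_pow_eq_one ?_
          rw [Subgroup.coe_pow, ← pow_mul, Nat.ordProj_mul_ordCompl_eq_self]
          exact pow_orderOf_eq_one _
        exact Nat.not_dvd_ordCompl Nat.prime_three (orderOf_pos (c : G)).ne' (hd.trans hd')
      simpa using hp' _ (pow_mem hc' _) hm
    · intro N hN hN3 hNO q hq
      obtain ⟨o, ho, rfl⟩ := hmem q (hNO hq)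
      haveI : (N.comap π).Normal := hN.comap π
      refine hVmem o ho (hbig (N.comap π) (fun c hc => ?_) (fun c hc => ?_) o hq)
      · obtain ⟨c', hc', e⟩ := hmem _ (hNO hc)
        refine mem_subgroupOf.2 ?_
        have := O0.mul_mem hc' (hN0O0 (hπeq.1 e))
        rwa [mul_inv_cancel_left] at this
      · obtain ⟨k, hk⟩ := hN3 ⟨π c, hc⟩
        refine ⟨k, ?_⟩
        have e := congrArg Subtype.val hk
        rw [Subgroup.coe_pow, Subgroup.coe_one] at e
        rw [← map_pow, hπ1] at e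
        simpa using hN0R e
    · haveI := Fact.mk h.prime
      refine orderOf_eq_prime ?_ ?_
      · rw [← map_pow, hπ1]
        show (x : G) ^ ℓ ∈ N0
        rw [h.x_pow]; exact one_mem _
      · intro e
        have e1 := hxN0 1 (by simpa [X] using hπ1.1 e)
        rw [zpow_one] at e1
        exact h.x_ne_one (Subtype.ext e1)
    · refine (eq_bot_iff_forall _).2 ?_
      rintro _ ⟨⟨r, hr, rfl⟩, hc⟩
      have hrR : (r : G) ∈ R := mem_subgroupOf.1 hr
      have e : π r = π (X * r * X⁻¹) := by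
        rw [map_mul, map_mul, map_inv, (mem_centralizer_zpowers.1 hc).eq, mul_inv_cancel_right]
      have hm : (r : G)⁻¹ * ((x : G) * r * (x : G)⁻¹) ∈ Φ :=
        hΦinf _ (mul_mem (inv_mem hrR) ((mem_normalizer_iff.1 hxO0.2 _).1 hrR)) (hπeq.1 e)
      have hcop : (orderOf (x : G)).Coprime (Nat.card Φ) := by
        obtain ⟨b, hb⟩ := IsPGroup.iff_card.1 (hRp.to_le hΦR)
        rw [hb, h.orderOf_x]
        exact ((Nat.coprime_primes h.prime Nat.prime_three).2 h.ne_three).pow_right b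
      obtain ⟨c, hxc, hcΦ⟩ := exists_fixed_coset (hM0Φ (mem_sup_left hxO0)) hcop hm
      have hcR : c ∈ R := by
        have := mul_mem hrR (hΦR hcΦ)
        rwa [mul_inv_cancel_left] at this
      obtain ⟨k, hk⟩ := hRp ⟨c, hcR⟩
      rw [h.eq_one_of_three_x (k := k) (by simpa using congrArg Subtype.val hk) hxc.symm, mul_one] at hcΦ
      exact hπ1.2 (mem_sup_right (inv_mem_iff.1 hcΦ))
    · have hle : fixed (R'.map π) (zpowers (π T)) ≤ ((UG U).subgroupOf M0).map π := by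
        rintro _ ⟨⟨r, hr, rfl⟩, hc⟩
        have hrR : (r : G) ∈ R := mem_subgroupOf.1 hr
        have e : π r = π (T * r * T⁻¹) := by
          rw [map_mul, map_mul, map_inv, (mem_centralizer_zpowers.1 hc).eq, mul_inv_cancel_right]
        have hm : (r : G)⁻¹ * (t * r * t⁻¹) ∈ Φ :=
          hΦinf _ (mul_mem (inv_mem hrR) ((mem_normalizer_iff.1 (h.t_R3 n) _).1 hrR)) (hπeq.1 e)
        obtain ⟨c, htc, hcΦ⟩ := exists_fixed_coset (hM0Φ htM0)
          (h.inv.symm ▸ Nat.coprime_two_left.2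
            (n.odd.of_dvd_nat (Subgroup.card_dvd_of_le (hΦR.trans hRO)))) hm
        have hcR : c ∈ R := by
          have := mul_mem hrR (hΦR hcΦ)
          rwa [mul_inv_cancel_left] at this
        exact ⟨⟨c, mem_sup_left (hRO0 hcR)⟩, mem_subgroupOf.2 (hYcard c hcR htc),
          (hπeq.2 (mem_sup_right hcΦ)).symm⟩
      refine (Subgroup.card_dvd_of_le hle).trans ((card_map_dvd _ π).trans ?_)
      rw [Nat.card_congr (subgroupOfEquivOfLe
        (((h.UG_le_R3 n).trans hRO0).trans le_sup_left : UG U ≤ M0)).toEquiv, h.card_UG]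
    · intro q hq htq
      obtain ⟨o, ho, rfl⟩ := hmem q hq
      obtain ⟨c, hcO, htc, hco⟩ := hfixlift o ho htq
      obtain ⟨v, hv, j, hj⟩ := h.exists_normalizes_x (n.fixed_le c hcO.1 htc)
      set v' : M0 := ⟨v, mem_sup_left (hRO0 (h.UG_le_R3 n hv))⟩
      have hv'V : π v' ∈ R'.map π := ⟨v', mem_subgroupOf.2 (h.UG_le_R3 n hv), rfl⟩
      refine ⟨j, ?_⟩
      rw [← hco]
      have e : π v' * π c * π X * (π v' * π c)⁻¹ = π X ^ j := by
        rw [← map_zpow, ← map_mul, ← map_mul, ← map_inv, ← map_mul]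
        congr 1
        exact Subtype.ext (by simpa [v', X] using hj)
      have e2 : π c * π X * (π c)⁻¹ * (π X ^ j)⁻¹ = (π v')⁻¹ * (π X ^ j * π v' * (π X ^ j)⁻¹) := by
        rw [← e]; group
      rw [e2]
      exact mul_mem (inv_mem hv'V)
        ((Subgroup.Normal.map inferInstance π (QuotientGroup.mk'_surjective _) : (R'.map π).Normal).conj_mem _ hv'V _)
    · intro q hq hord htq hxq
      obtain ⟨o, ho, rfl⟩ := hmem q hq
      obtain ⟨c, hcO, htc, hco⟩ := hfixlift o ho htq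
      rw [← hco] at hxq hord ⊢
      have e : π c = π (X * c * X⁻¹) := by
        rw [map_mul, map_mul, map_inv, hxq.eq, mul_inv_cancel_right]
      set E := N0 ⊓ UG U with hE
      have hm1 : (c : G)⁻¹ * ((x : G) * c * (x : G)⁻¹) ∈ N0 := hπeq.1 e
      have hm : (c : G)⁻¹ * ((x : G) * c * (x : G)⁻¹) ∈ E :=
        ⟨hm1, hfixN0 _ hm1 (htc.inv_right.mul_right (((h.t_L x).mul_right htc).mul_right (h.t_L x).inv_right))⟩
      obtain ⟨d, hxd, hdE⟩ := exists_fixed_coset
        (inf_normalizer_le_normalizer_inf ⟨hM0N0 (mem_sup_left hxO0), h.x_mem_NB.2⟩ :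
          (x : G) ∈ normalizer (E : Set G))
        (by rw [h.orderOf_x]; exact h.coprime_UG.coprime_dvd_right (Subgroup.card_dvd_of_le inf_le_right)) hm
      have htd : Commute t d := by
        obtain ⟨z, -, hz⟩ := hdE.2
        have hzt : Commute t ((c : G)⁻¹ * d) := hz ▸ h.t_L z
        have := htc.mul_right hzt
        rwa [mul_inv_cancel_left] at this
      have hdO : d ∈ O0 := by
        have := mul_mem hcO (hN0O0 hdE.1)
        rwa [mul_inv_cancel_left] at this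
      set D : M0 := ⟨d, mem_sup_left hdO⟩
      have hπd : π c = π D := hπeq.2 hdE.1
      have hd1 : d ^ ℓ = 1 := by
        have hmem : d ^ ℓ ∈ N0 := by
          have e1 : π (D ^ ℓ) = 1 := by rw [map_pow, ← hπd, ← hord, pow_orderOf_eq_one]
          simpa [D] using hπ1.1 e1
        exact (eq_bot_iff_forall _).1 h.fix_U _ ⟨hfixN0 _ hmem (htd.pow_right ℓ),
          mem_centralizer_zpowers.2 (hxd.pow_right ℓ)⟩
      haveI := Fact.mk h.prime
      have hdx : d ∈ zpowers (x : G) := by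
        by_cases hd : d = 1
        · exact hd ▸ one_mem _
        · exact h.mem_zpowers_x htd (orderOf_eq_prime hd1 hd) hxd.symm
      obtain ⟨j, hj⟩ := mem_zpowers_iff.1 hdx
      exact ⟨j, by beta_reduce; rw [hπd, ← map_zpow]; congr 1; exact Subtype.ext (by simpa [D, X] using hj)⟩
    · rw [← map_inv, ← map_mul, ← map_mul, ← map_pow]
      congr 1
      exact Subtype.ext hφx
    · refine ⟨a, ?_⟩
      have key : ∀ i : ℕ, φ ^ i * (x : G) * (φ ^ i)⁻¹ = (x : G) ^ (s ^ i) := by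
        intro i
        induction i with
        | zero => simp
        | succ i ih =>
          calc φ ^ (i + 1) * (x : G) * (φ ^ (i + 1))⁻¹ = φ * (φ ^ i * (x : G) * (φ ^ i)⁻¹) * φ⁻¹ := by
                rw [pow_succ']; group
            _ = _ := by rw [ih, ← conj_pow, hφx, ← pow_mul, pow_succ']
      have h1 := key (3 ^ a)
      rw [hφp, one_mul, inv_one, mul_one] at h1
      have h2 : (x : G) ^ (s ^ 3 ^ a) = (x : G) ^ 1 := by rw [pow_one]; exact h1.symm
      rw [pow_eq_pow_iff_modEq, h.orderOf_x, ← ZMod.natCast_eq_natCast_iff] at h2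
      simpa using h2
  refine hV.notMem_commutator ?_
  -- focal: `φ ∈ M'`, and `M' ≤ O_{3'}(O) M₀'`
  have hφM : φ ∈ ⁅M, M⁆ := by
    have hp : IsPGroup 3 (zpowers (⟨φ, hφO⟩ : O)) := IsPGroup.of_card_dvd_pow (n := a)
      (by rw [Nat.card_zpowers, Subgroup.orderOf_mk]; exact orderOf_dvd_of_pow_eq_one hφp)
    obtain ⟨Q, hQ⟩ := hp.exists_le_sylow
    let Po : Sylow 3 O :=
      { toSubgroup := P.subgroupOf O
        isPGroup' := n.sylow.1.comap_of_injective O.subtype O.subtype_injective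
        is_maximal' := by
          intro Q hQ hle
          have hle' : P ≤ Q.map O.subtype := fun y hy =>
            ⟨⟨y, n.sylow.2.1 hy⟩, hle (mem_subgroupOf.2 hy), rfl⟩
          refine le_antisymm (fun q hq => mem_subgroupOf.2 ?_) hle
          exact (n.sylow.2.2 _ (hQ.map _) hle').le ⟨q, hq, rfl⟩ }
    obtain ⟨g, hg⟩ := MulAction.exists_smul_eq O Q Po
    have hmP : (g : G) * φ * (g : G)⁻¹ ∈ P := by
      have : g * ⟨φ, hφO⟩ * g⁻¹ ∈ (Po : Subgroup O) := hg ▸ ⟨⟨φ, hφO⟩, hQ (mem_zpowers _), rfl⟩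
      simpa [Po, mem_subgroupOf] using this
    have hgM : (g : G) ∈ normalizer ((⁅M, M⁆ : Subgroup G) : Set G) :=
      normalizer_commutator_ge_left M M (mem_sup_left g.2)
    exact (mem_normalizer_iff.1 hgM φ).2 (n.focal _ hmP)
  set M0' := M0.subgroupOf M
  set T' := (Tc O).subgroupOf M
  haveI : T'.Normal := (normal_subgroupOf_iff_le_normalizer
    ((map_subtype_le _ : Tc O ≤ O).trans le_sup_left)).2 (hMO.trans (h.normalizer_O_le_Tc n))
  set ψ := QuotientGroup.mk' T' with hψ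
  have hψtop : M0'.map ψ = ⊤ := by
    refine (eq_top_iff' _).2 fun z => ?_
    obtain ⟨⟨g, hg⟩, rfl⟩ := QuotientGroup.mk'_surjective T' z
    obtain ⟨o, ho, r, hr, rfl⟩ := Coprime.exists_mul_of_mem_sup (zpowers_le.2 n.t_norm) hg
    obtain ⟨τ, hτ, hτo⟩ := h.exists_Tc_mul n ho
    have hτM : τ ∈ M := mem_sup_left (map_subtype_le _ hτ)
    have hm : τ⁻¹ * (o * r) ∈ M0 := by
      rw [← mul_assoc]; exact mul_mem (mem_sup_left hτo) (mem_sup_right hr)
    refine ⟨⟨τ⁻¹ * (o * r), mul_mem (inv_mem hτM) hg⟩, mem_subgroupOf.2 hm, ?_⟩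
    rw [show (⟨τ⁻¹ * (o * r), mul_mem (inv_mem hτM) hg⟩ : M) = (⟨τ, hτM⟩ : M)⁻¹ * ⟨o * r, hg⟩ from rfl,
      map_mul]
    rw [show ψ (⟨τ, hτM⟩ : M)⁻¹ = 1 from (QuotientGroup.eq_one_iff _).2 (inv_mem (mem_subgroupOf.2 hτ)),
      one_mul]
  have hcomm : commutator M ≤ ⁅M0', M0'⁆ ⊔ T' := by
    rw [← QuotientGroup.ker_mk' T', ← comap_map_eq, ← map_le_iff_le_comap, _root_.commutator_def,
      ← hψ, map_commutator, map_commutator, hψtop]
    exact commutator_mono le_top le_top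
  have hφ0 : φ ∈ Tc O ⊔ ⁅M0, M0⁆ := by
    rw [← map_subtype_commutator] at hφM
    obtain ⟨φ', hφ', e⟩ := hφM
    have h1 : (φ' : G) ∈ (⁅M0', M0'⁆ ⊔ T').map M.subtype := ⟨φ', hcomm hφ', rfl⟩
    have hTm : T'.map M.subtype = Tc O :=
      map_subgroupOf_eq_of_le ((map_subtype_le _ : Tc O ≤ O).trans le_sup_left)
    rw [Subgroup.map_sup, map_commutator, map_subgroupOf_eq_of_le hM0M, hTm, sup_comm] at h1
    exact e ▸ h1
  have hM0c : ⁅M0, M0⁆ ≤ M0 := commutator_le.2 fun p hp q hq => by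
    rw [commutatorElement_def]; exact mul_mem (mul_mem (mul_mem hp hq) (inv_mem hp)) (inv_mem hq)
  obtain ⟨τ, hτ, d, hd, hτd⟩ := Coprime.exists_mul_of_mem_sup
    (hM0c.trans (hM0M.trans (hMO.trans (h.normalizer_O_le_Tc n)))) hφ0
  have hτT0 : τ ∈ T0 := by
    refine ⟨hτ, ?_⟩
    have := (normalizer (R : Set G)).mul_mem hφO0.2 ((normalizer (R : Set G)).inv_mem (hM0R (hM0c hd)))
    rwa [← hτd, mul_inv_cancel_right] at this
  rw [← map_subtype_commutator] at hd
  obtain ⟨d', hd', rfl⟩ := hd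
  have e : π Ψ = π d' := by
    rw [hπeq]
    show φ⁻¹ * (d' : G) ∈ N0
    rw [← hτd]
    simp only [Subgroup.coe_subtype, mul_inv_rev, mul_assoc]
    have h2 := (mem_normalizer_iff.1 (hM0N0 (inv_mem d'.2)) τ⁻¹).1 (inv_mem (mem_sup_left hτT0))
    simpa [mul_assoc] using h2
  rw [e]
  have h1 : π d' ∈ (commutator M0).map π := ⟨d', hd', rfl⟩
  rw [_root_.commutator_def, map_commutator] at h1
  exact commutator_mono le_top le_top h1

end LocSetting

end Setting

/-- If `C(t) ⊇ ⟨t⟩ × L` with `L ≅ PSL₂(3^f)`, `f` odd, in a minimal counterexample, the elements of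
3-power order of `C(t)` lie in `L`. -/
theorem mem_of_three {G : Type u} [Group G] [Finite G] (hG : Minimal G) {t : G} (ht : orderOf t = 2)
    {L : Subgroup G} (hle : L ≤ centralizer ({t} : Set G))
    (hnor : centralizer ({t} : Set G) ≤ normalizer (L : Set G)) (htL : t ∉ L)
    (hcent : centralizer (L : Set G) ⊓ centralizer ({t} : Set G) = zpowers t)
    (hodd : Odd ((L ⊔ zpowers t).relIndex (centralizer ({t} : Set G))))
    (F : Type) [Field F] [Fintype F] [CharP F 3] (hF : Fintype.card F % 8 = 3) (hF5 : 5 ≤ Fintype.card F)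
    (e : L ≃* PSL(2, F)) {y : G} (hy : y ∈ centralizer ({t} : Set G)) {k : ℕ} (hpow : y ^ 3 ^ k = 1) :
    y ∈ L := by
  obtain ⟨n, -, hn⟩ := FiniteField.card F 3
  have hodd_n : Odd (n : ℕ) := by
    rcases Nat.even_or_odd (n : ℕ) with ⟨m, hm⟩ | h
    · exfalso
      rw [hn, hm, ← two_mul, pow_mul, Nat.pow_mod] at hF
      norm_num at hF
    · exact h
  have hn3 : 3 ≤ (n : ℕ) := by
    by_contra hlt
    have h1 : (n : ℕ) = 1 := by
      obtain ⟨m, hm⟩ := hodd_n
      omega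
    rw [hn, h1] at hF5
    norm_num at hF5
  obtain ⟨ℓ, U, x, w, hℓ, hℓ3, hord, hB⟩ := exists_borelData hn hodd_n hn3
  have h : LocSetting t L (U.map e.symm.toMonoidHom) (e.symm x) (e.symm w) n ℓ :=
    { min := hG, inv := ht, le := hle, nor := hnor, notMem := htL, cent := hcent, odd_index := hodd
      prime := hℓ, ne_three := hℓ3, ord := hord, odd_f := hodd_n, borel := hB.map_equiv e.symm }
  by_contra hyL
  obtain ⟨φ, hφN, a, s, hφp, hφx, hs⟩ := h.exists_phi hy hpow hyL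
  obtain ⟨O, P, hOP⟩ := h.exists_normSetting
  exact h.false_of_phi hOP hφN hφp hφx hs

end CfsgLib.Walter.FieldThree
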