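import Cfsg.Agent.Walter.FieldThree.Torus
import Cfsg.Agent.Coprime.Action
import Cfsg.Agent.S0205
import Cfsg.Agent.Walter.FieldThree.OddModule.Basic

/-!
# `C(x)` has no element of order 3; 3-subgroups normalized by the Borel normalizer
-/

set_option autoImplicit false
set_option linter.style.haveILetI false
set_option linter.unusedSectionVars false

open Subgroup
open scoped Pointwise

namespace CfsgLib.Walter.FieldThree

universe u

variable {G : Type u} [Group G] [Finite G] {t : G} {L : Subgroup G} {U : Subgroup L} {x w : L} {f ℓ : ℕ}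
  (h : LocSetting t L U x w f ℓ)
include h

namespace LocSetting

theorem ell_odd : Odd ℓ := by
  have h1 := h.borel.odd.of_dvd_nat ((normalizer (U : Set L)).orderOf_dvd_natCard h.borel.x_mem)
  rwa [h.borel.x_ord] at h1

theorem isPGroup_UG : IsPGroup 3 (UG U) := h.isPGroup_U.map L.subtype

theorem coprime_UG : ℓ.Coprime (Nat.card (UG U)) := by
  rw [h.card_UG]
  exact ((Nat.coprime_primes h.prime Nat.prime_three).2 h.ne_three).pow_right f

theorem x_pow : (x : G) ^ ℓ = 1 := by rw [← h.orderOf_x]; exact pow_orderOf_eq_one _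

theorem x_L_fixed {z : L} (hz : z * z = 1) (hc : Commute z x) : z = 1 :=
  eq_one_of_sq_of_odd (h.borel.odd.of_dvd_nat
    ((normalizer (U : Set L)).orderOf_dvd_natCard (h.borel.cx z hc).1)) hz

/-- The elements of order `ℓ` of `C(t)` commuting with `x` are powers of `x`. -/
theorem mem_zpowers_x {y : G} (hy : Commute t y) (hord : orderOf y = ℓ) (hyx : Commute y (x : G)) :
    y ∈ zpowers (x : G) := by
  haveI := Fact.mk h.prime
  by_contra hne
  set A := zpowers (x : G) ⊔ zpowers y with hA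
  have hAc : ∀ a ∈ A, ∀ b ∈ A, Commute a b := by
    intro a ha b hb
    have hc : Subgroup.closure ({(x : G), y} : Set G) = A := by
      rw [hA, zpowers_eq_closure, zpowers_eq_closure, ← Subgroup.closure_union, Set.singleton_union]
    haveI := Subgroup.isMulCommutative_closure (k := ({(x : G), y} : Set G)) (by
      rintro p (rfl | rfl) q (rfl | rfl)
      exacts [rfl, hyx.eq.symm, hyx.eq, rfl])
    exact congrArg Subtype.val (IsMulCommutative.is_comm.comm
      (⟨a, hc ▸ ha⟩ : closure ({(x : G), y} : Set G)) ⟨b, hc ▸ hb⟩)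
  haveI : IsMulCommutative A := ⟨⟨fun a b => Subtype.ext (hAc a a.2 b b.2)⟩⟩
  have hexp : ∀ a ∈ A, a ^ ℓ = 1 := by
    intro a ha
    obtain ⟨p, hp, q, hq, rfl⟩ := Coprime.exists_mul_of_mem_sup (N := zpowers (x : G)) (H := zpowers y)
      (fun z hz => centralizer_le_normalizer _ (mem_centralizer_iff.2 fun r hr =>
        (hAc r (mem_sup_left hr) z (mem_sup_right hz)).eq)) ha
    rw [(hAc p (mem_sup_left hp) q (mem_sup_right hq)).mul_pow]
    obtain ⟨i, rfl⟩ := mem_zpowers_iff.1 hp
    obtain ⟨j, rfl⟩ := mem_zpowers_iff.1 hq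
    simp only [← zpow_natCast, ← zpow_mul]
    rw [mul_comm i, mul_comm j, zpow_mul, zpow_mul, zpow_natCast, zpow_natCast,
      h.x_pow, show y ^ ℓ = 1 by rw [← hord]; exact pow_orderOf_eq_one y, one_zpow, one_zpow, mul_one]
  have hcyc : ¬ IsCyclic A := by
    intro hc
    obtain ⟨g, hg⟩ := hc.exists_generator
    have hgl : orderOf (g : G) ∣ ℓ := orderOf_dvd_of_pow_eq_one (hexp g g.2)
    have hle : A ≤ zpowers (g : G) := fun a ha => by
      obtain ⟨i, hi⟩ := mem_zpowers_iff.1 (hg ⟨a, ha⟩)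
      exact ⟨i, by simpa using congrArg Subtype.val hi⟩
    have hAx : A = zpowers (x : G) := by
      refine (eq_of_le_of_card_ge le_sup_left ?_).symm
      rw [Nat.card_zpowers, h.orderOf_x]
      exact (card_le_of_le hle).trans (by rw [Nat.card_zpowers]; exact Nat.le_of_dvd h.prime.pos hgl)
    exact hne (hAx.le (mem_sup_right (mem_zpowers y)))
  have hyU := h.normalizes_U hy (hord ▸ h.ell_odd) hyx
  have hAU : A ≤ normalizer (UG U : Set G) := sup_le (zpowers_le.2 h.x_mem_NB.2) (zpowers_le.2 hyU)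
  have hcop : (Nat.card A).Coprime (Nat.card (UG U)) := by
    have hp : IsPGroup ℓ A := fun a => ⟨1, Subtype.ext (by simpa using hexp a a.2)⟩
    obtain ⟨n, hn⟩ := IsPGroup.iff_card.1 hp
    rw [hn]
    exact h.coprime_UG.pow_left n
  refine h.U_ne_bot ((map_eq_bot_iff_of_injective U L.subtype_injective).1 (le_bot_iff.1
    (Coprime.le_of_forall_inf_centralizer_le hcyc hAU hcop fun a ha ha1 => ?_)))
  by_contra hnb
  have heq : UG U ⊓ centralizer ({a} : Set G) = UG U := by
    refine h.eq_of_invariant inf_le_left (inf_normalizer_le_normalizer_inf ⟨h.x_mem_NB.2,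
      le_normalizer (mem_centralizer_singleton_iff.2
        (hAc _ (mem_sup_left (mem_zpowers _)) a ha).eq)⟩) fun e => hnb e.le
  have hta : Commute t a := by
    have hle : A ≤ centralizer ({t} : Set G) :=
      sup_le (zpowers_le.2 (h.le x.2)) (zpowers_le.2 (h.mem_cent hy))
    exact h.commute_t (hle ha)
  refine ha1 (h.eq_one_of_centralizes hta (h.ell_odd.of_dvd_nat (orderOf_dvd_of_pow_eq_one (hexp a ha)))
    (hAc a ha _ (mem_sup_left (mem_zpowers _))) fun z hz => ?_)
  exact (mem_centralizer_singleton_iff.1 (heq.ge ⟨z, hz, rfl⟩).2).symm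

/-- `C(x)` has no element of order 3. -/
theorem eq_one_of_three_x {y : G} {k : ℕ} (hpow : y ^ 3 ^ k = 1) (hyx : Commute y (x : G)) : y = 1 := by
  haveI : Fact (Nat.Prime 3) := ⟨Nat.prime_three⟩
  set C := centralizer ({(x : G)} : Set G) with hC
  have hCm : ∀ {z : G}, Commute z (x : G) → z ∈ C := fun hz => mem_centralizer_singleton_iff.2 hz.eq
  have hinv : ∀ s ∈ C, Commute t s → s * s = 1 → s = 1 ∨ s = t := by
    intro s hs hts hs2
    obtain ⟨l, hl, hsl⟩ := h.decomp_involution hts hs2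
    have hsx : Commute s (x : G) := mem_centralizer_singleton_iff.1 hs
    have hlx : Commute (l : G) (x : G) := by
      rcases hsl with rfl | rfl
      · exact hsx
      · have := hsx.mul_left (h.t_L x)
        rwa [mul_assoc, h.t_sq, mul_one] at this
    rw [h.x_L_fixed hl (Subtype.ext hlx.eq), Subgroup.coe_one, one_mul] at hsl
    exact hsl
  obtain ⟨O, hOC, hO, -, hCO, -, hodd⟩ := h.exists_odd_complement C (hCm (h.t_L x)) hinv
  have hw2 : (w : G) * w = 1 := by rw [← Subgroup.coe_mul, h.borel.w_sq]; rfl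
  have hw : orderOf (w : G) = 2 := Small.orderOf_eq_two_iff_sq.2 ⟨fun e => h.borel.w_notMem (by
    rw [show w = 1 from Subtype.ext e]; exact one_mem _), hw2⟩
  have hwt : (w : G) ≠ t := fun e => h.notMem (e ▸ w.2)
  have hwx : (w : G) * x * (w : G)⁻¹ = (x : G)⁻¹ := by exact_mod_cast congrArg Subtype.val h.borel.w_x
  -- `t` and `w` normalize the odd part
  have hwO : (w : G) ∈ normalizer (O : Set G) := mem_normalizer_fintype fun z hz => by
    refine hodd _ (hCm ?_) ?_
    · have hzx : Commute z (x : G) := mem_centralizer_singleton_iff.1 (hOC hz)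
      have h1 : Commute ((w : G) * z * (w : G)⁻¹) ((w : G) * (x : G)⁻¹ * (w : G)⁻¹) :=
        hzx.inv_right.map (MulAut.conj (w : G)).toMonoidHom
      rwa [show (w : G) * (x : G)⁻¹ * (w : G)⁻¹ = ((w : G) * (x : G) * (w : G)⁻¹)⁻¹ by group, hwx,
        inv_inv] at h1
    · rw [Small.orderOf_conj_eq]; exact hO.of_dvd_nat (O.orderOf_dvd_natCard hz)
  have htO : t ∈ normalizer (O : Set G) := hCO (hCm (h.t_L x))
  set A := zpowers t ⊔ zpowers (w : G) with hA
  have hAc : Nat.card A = 4 := by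
    rw [hA, Coprime.card_sup_eq (N := zpowers t) (H := zpowers (w : G)) ?_ ?_, Nat.card_zpowers,
      Nat.card_zpowers, h.inv, hw]
    · exact zpowers_le.2 (centralizer_le_normalizer _ (mem_centralizer_iff.2 fun z hz => by
        obtain ⟨i, rfl⟩ := mem_zpowers_iff.1 hz
        exact ((h.t_L w).zpow_left i).eq))
    · refine (eq_bot_iff_forall _).2 fun z hz => ?_
      by_contra hz1
      haveI : Fact (Nat.Prime 2) := ⟨Nat.prime_two⟩
      have hd : ∀ {a : G}, orderOf a = 2 → z ∈ zpowers a → z = a := by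
        intro a ha hza
        obtain ⟨i, rfl⟩ := mem_zpowers_iff.1 hza
        rcases Int.even_or_odd i with ⟨j, rfl⟩ | ⟨j, rfl⟩
        · exfalso
          apply hz1
          rw [← two_mul, zpow_mul, zpow_two, Small.mul_self_of_orderOf_two ha, one_zpow]
        · rw [zpow_add, zpow_mul, zpow_two, Small.mul_self_of_orderOf_two ha, one_zpow, one_mul, zpow_one]
      exact hwt ((hd hw hz.2).symm.trans (hd h.inv hz.1))
  have hcop : (Nat.card A).Coprime (Nat.card O) := by
    rw [hAc, show (4 : ℕ) = 2 ^ 2 from rfl]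
    exact (Nat.coprime_two_left.2 hO).pow_left 2
  have hsolv : Group.IsSolvable O := Cfsg.Agent.S0205.result hO
  obtain ⟨P, hP⟩ := Coprime.exists_invariant_sylow (G := O) (A := A)
    (sup_le (zpowers_le.2 htO) (zpowers_le.2 hwO)) hcop (Or.inr hsolv) 3
  have hD := h.le_centralizer_of_four (P.isPGroup'.map O.subtype) hw (h.t_L w) hwt
    (hP (mem_sup_left (mem_zpowers _))) (hP (mem_sup_right (mem_zpowers _)))
  have hP1 : (P : Subgroup O) = ⊥ := by
    refine (eq_bot_iff_forall _).2 fun z hz => Subtype.ext ?_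
    obtain ⟨j, hj⟩ := P.isPGroup' ⟨z, hz⟩
    exact h.eq_one_of_three (hD _ ⟨z, hz, rfl⟩).1 (k := j)
      (by simpa using congrArg (fun v : (P : Subgroup O) => ((v : O) : G)) hj)
      (mem_centralizer_singleton_iff.1 (hOC z.2))
  have hyO : y ∈ O := hodd y (hCm hyx) (orderOf_pow_three hpow)
  obtain ⟨Q, hQ⟩ := (IsPGroup.of_card_dvd_pow (n := k) (by
    rw [Nat.card_zpowers, Subgroup.orderOf_mk]; exact orderOf_dvd_of_pow_eq_one hpow) :
      IsPGroup 3 (zpowers (⟨y, hyO⟩ : O))).exists_le_sylow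
  have hQ1 : (Q : Subgroup O) = ⊥ := by
    obtain ⟨g, hg⟩ := MulAction.exists_smul_eq O P Q
    rw [← hg, Sylow.coe_subgroup_smul, hP1]
    exact Subgroup.map_bot _
  have := hQ (mem_zpowers (⟨y, hyO⟩ : O))
  rw [hQ1, mem_bot] at this
  exact congrArg Subtype.val this

/-- A 3-subgroup of `C(t)` normalized by the Borel normalizer is trivial or `U`. -/
theorem eq_bot_or_UG {X : Subgroup G} (hX : IsPGroup 3 X) (hXt : X ≤ centralizer ({t} : Set G))
    (hn : NB t U ≤ normalizer (X : Set G)) : X = ⊥ ∨ X = UG U := by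
  haveI : Fact (Nat.Prime 3) := ⟨Nat.prime_three⟩
  have hxX : (x : G) ∈ normalizer (X : Set G) := hn h.x_mem_NB
  set W := X ⊓ L with hW
  have hWU : W ≤ UG U := by
    intro z hz
    set XL := X.subgroupOf L
    have hp : IsPGroup 3 XL := hX.comap_of_injective L.subtype L.subtype_injective
    have hnU : U ≤ normalizer (XL : Set L) := fun u hu => mem_normalizer_fintype fun v hv =>
      mem_subgroupOf.2 ((mem_normalizer_iff.1 (hn (h.UG_le_NB ⟨u, hu, rfl⟩)) v).1 (mem_subgroupOf.1 hv))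
    have := h.borel.sylow _ (hp.to_sup_of_normal_left' h.isPGroup_U hnU) le_sup_right
    exact ⟨⟨z, hz.2⟩, this.le (mem_sup_left (mem_subgroupOf.2 hz.1)), rfl⟩
  have hxW : (x : G) ∈ normalizer (W : Set G) :=
    inf_normalizer_le_normalizer_inf ⟨hxX, le_normalizer x.2⟩
  by_cases hWb : W = ⊥
  · left
    refine (eq_bot_iff_forall _).2 fun z hz => ?_
    obtain ⟨k, hk⟩ := hX ⟨z, hz⟩
    refine h.eq_one_of_three_x (k := k) (by simpa using congrArg Subtype.val hk) ?_
    have hm : z * (x : G) * z⁻¹ * (x : G)⁻¹ ∈ W := by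
      refine ⟨?_, L.mul_mem (h.conj_L (h.commute_t (hXt hz)) x.2) (L.inv_mem x.2)⟩
      have := mul_mem hz ((mem_normalizer_iff.1 hxX _).1 (inv_mem hz))
      simpa [mul_assoc] using this
    rw [hWb, mem_bot, mul_inv_eq_one] at hm
    exact mul_inv_eq_iff_eq_mul.1 hm
  · right
    have hWU' := h.eq_of_invariant hWU hxW hWb
    refine le_antisymm (fun z hz => ?_) (hWU'.ge.trans inf_le_left)
    have hcoset : z⁻¹ * ((x : G) * z * (x : G)⁻¹) ∈ UG U := by
      rw [← hWU']
      refine ⟨X.mul_mem (X.inv_mem hz) ((mem_normalizer_iff.1 hxX z).1 hz), ?_⟩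
      have := mul_mem (h.conj_L (h.commute_t (hXt (inv_mem hz))) x.2) (inv_mem x.2)
      simpa [mul_assoc] using this
    obtain ⟨c, hxc, hc⟩ := exists_fixed_coset h.x_mem_NB.2 (by rw [h.orderOf_x]; exact h.coprime_UG) hcoset
    have hcX : c ∈ X := by
      have h1 := mul_mem hz ((hWU'.ge hc).1)
      rwa [mul_inv_cancel_left] at h1
    obtain ⟨k, hk⟩ := hX ⟨c, hcX⟩
    rw [h.eq_one_of_three_x (k := k) (by simpa using congrArg Subtype.val hk) hxc.symm, mul_one] at hc
    exact inv_mem_iff.1 hc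

/-- Only `t` among the involutions of `C(t)` normalizes `U`. -/
theorem involution_NB {s : G} (hs : s ∈ NB t U) (hs2 : s * s = 1) : s = 1 ∨ s = t := by
  obtain ⟨l, hl, hsl⟩ := h.decomp_involution (h.commute_t hs.1) hs2
  have hlN : (l : G) ∈ normalizer (UG U : Set G) := by
    rcases hsl with rfl | rfl
    · exact hs.2
    · have := mul_mem hs.2 h.t_mem_NB.2
      rwa [mul_assoc, h.t_sq, mul_one] at this
  have hl1 : l = 1 := eq_one_of_sq_of_odd
    (h.borel.odd.of_dvd_nat ((normalizer (U : Set L)).orderOf_dvd_natCard (h.normalizer_UG.1 hlN))) hl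
  rw [hl1, Subgroup.coe_one, one_mul] at hsl
  exact hsl

/-- `N_{C(t)}(U) = U · N(⟨x⟩)`. -/
theorem exists_normalizes_x {y : G} (hy : y ∈ NB t U) :
    ∃ v ∈ UG U, ∃ j : ℤ, v * y * (x : G) * (v * y)⁻¹ = (x : G) ^ j := by
  set A := zpowers (x : G) with hA
  set B := A.map (MulAut.conj y).toMonoidHom with hB
  set z : L := ⟨y * (x : G) * y⁻¹, h.conj_L (h.commute_t hy.1) x.2⟩
  have hzN : (z : G) ∈ normalizer (UG U : Set G) := mul_mem (mul_mem hy.2 h.x_mem_NB.2) (inv_mem hy.2)
  have hzl : z ^ ℓ = 1 := Subtype.ext (by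
    show (y * (x : G) * y⁻¹) ^ ℓ = 1
    rw [conj_pow, h.x_pow, mul_one, mul_inv_cancel])
  have hzU := h.borel.cyc z (h.normalizer_UG.1 hzN) (hzl ▸ one_mem U)
  have hzUG : y * (x : G) * y⁻¹ ∈ UG U ⊔ A := by
    have := mem_map_of_mem L.subtype hzU
    rwa [Subgroup.map_sup, MonoidHom.map_zpowers] at this
  have hAN : A ≤ normalizer (UG U : Set G) := zpowers_le.2 h.x_mem_NB.2
  have hBA : B ≤ UG U ⊔ A := by
    rw [hB, hA, MonoidHom.map_zpowers]
    exact zpowers_le.2 (by simpa using hzUG)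
  have hcardA : Nat.card A = ℓ := by rw [hA, Nat.card_zpowers, h.orderOf_x]
  have hcardB : Nat.card B = Nat.card A := card_map_of_injective (MulAut.conj y).injective
  have hBN : B ≤ normalizer (UG U : Set G) := hBA.trans (sup_le le_normalizer hAN)
  have hcop : (Nat.card (UG U)).Coprime (Nat.card A) := hcardA ▸ h.coprime_UG.symm
  have heq : UG U ⊔ A = UG U ⊔ B := by
    refine (eq_of_le_of_card_ge (sup_le le_sup_left hBA) ?_).symm
    rw [Coprime.card_sup_eq hAN (Coprime.inf_eq_bot_of_coprime hcop),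
      Coprime.card_sup_eq hBN (Coprime.inf_eq_bot_of_coprime (hcardB ▸ hcop)), hcardB]
  haveI : Fact (Nat.Prime 3) := ⟨Nat.prime_three⟩
  haveI := h.isPGroup_UG.isNilpotent
  obtain ⟨n, hn, hnB⟩ := Coprime.exists_conj_eq_of_sup_eq hAN hBN hcop hcardB heq
    (Or.inl inferInstance)
  have hxB : y * (x : G) * y⁻¹ ∈ B := ⟨x, mem_zpowers _, rfl⟩
  rw [← hnB, Coprime.mem_conj_smul] at hxB
  obtain ⟨j, hj⟩ := mem_zpowers_iff.1 hxB
  refine ⟨n⁻¹, inv_mem hn, j, ?_⟩
  rw [hj]; group

end LocSetting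

end CfsgLib.Walter.FieldThree
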