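import Cfsg.Agent.PLocal.Cores
import Cfsg.Agent.PLocal.PSolvable
import Cfsg.Agent.Solvable.Fitting

/-!
# `O_{p',p}(K)` of a solvable group
-/

set_option autoImplicit false
set_option linter.style.haveILetI false
set_option linter.unusedSectionVars false

open Subgroup

namespace CfsgLib.Walter.FieldThree

variable {p : ℕ} [Fact p.Prime] {K : Type*} [Group K] [Finite K]

instance pPrimeCore_normal' : (Cfsg.pPrimeCore p K).Normal := Subgroup.sSup_normal _ fun _ h => h.1

/-- `O_{p',p}(K)`. -/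
def upperCore (p : ℕ) [Fact p.Prime] (K : Type*) [Group K] [Finite K] : Subgroup K :=
  (Cfsg.pCore p (K ⧸ Cfsg.pPrimeCore p K)).comap (QuotientGroup.mk' (Cfsg.pPrimeCore p K))

theorem pPrimeCore_le_upperCore : Cfsg.pPrimeCore p K ≤ upperCore p K := fun y hy => by
  show QuotientGroup.mk' _ y ∈ Cfsg.pCore p _
  rw [show QuotientGroup.mk' (Cfsg.pPrimeCore p K) y = 1 from (QuotientGroup.eq_one_iff y).2 hy]
  exact one_mem _

instance upperCore_normal : (upperCore p K).Normal :=
  (Solvable.pCore_normal p).comap _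

theorem pPrimeCore_characteristic : (Cfsg.pPrimeCore p K).Characteristic := by
  refine characteristic_iff_map_le.2 fun e => ?_
  exact PLocal.map_pPrimeCore_le_of_surjective e.surjective

theorem upperCore_characteristic : (upperCore p K).Characteristic := by
  haveI := pPrimeCore_characteristic (p := p) (K := K)
  refine characteristic_iff_map_le.2 fun e => ?_
  have he : Cfsg.pPrimeCore p K ≤ (Cfsg.pPrimeCore p K).comap e.toMonoidHom :=
    (characteristic_iff_le_comap.1 inferInstance e)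
  set g := QuotientGroup.map _ _ e.toMonoidHom he
  have hg : Function.Surjective g := by
    intro z
    obtain ⟨z, rfl⟩ := QuotientGroup.mk'_surjective _ z
    exact ⟨QuotientGroup.mk' _ (e.symm z), by simp [g]⟩
  rintro _ ⟨y, hy, rfl⟩
  have h := Solvable.map_pCore_le (p := p) hg ⟨_, hy, rfl⟩
  exact h

/-- A normal subgroup which is a `p`-group modulo `O_{p'}` is in `O_{p',p}`. -/
theorem le_upperCore {N : Subgroup K} [hN : N.Normal]
    (h : ∀ n ∈ N, ∃ k : ℕ, n ^ p ^ k ∈ Cfsg.pPrimeCore p K) : N ≤ upperCore p K := by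
  set π := QuotientGroup.mk' (Cfsg.pPrimeCore p K) with hπ
  haveI : (N.map π).Normal := hN.map π (QuotientGroup.mk'_surjective _)
  have hp : IsPGroup p (N.map π) := by
    rintro ⟨_, n, hn, rfl⟩
    obtain ⟨k, hk⟩ := h n hn
    exact ⟨k, Subtype.ext (show (π n) ^ p ^ k = 1 by rw [← map_pow]; exact (QuotientGroup.eq_one_iff _).2 hk)⟩
  exact map_le_iff_le_comap.1 (Solvable.le_pCore hp)

theorem pow_mem_of_upperCore {n : K} (hn : n ∈ upperCore p K) :
    ∃ k : ℕ, n ^ p ^ k ∈ Cfsg.pPrimeCore p K := by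
  obtain ⟨k, hk⟩ := Solvable.isPGroup_pCore (G := K ⧸ Cfsg.pPrimeCore p K) p ⟨_, hn⟩
  refine ⟨k, (QuotientGroup.eq_one_iff _).1 ?_⟩
  simpa using congrArg Subtype.val hk

/-- Hall–Higman: the centralizer of `O_{p',p}` modulo `O_{p'}` is contained in it. -/
theorem mem_upperCore_of_commutator [Group.IsSolvable K] {c : K}
    (h : ∀ r ∈ upperCore p K, c * r * c⁻¹ * r⁻¹ ∈ Cfsg.pPrimeCore p K) : c ∈ upperCore p K := by
  set π := QuotientGroup.mk' (Cfsg.pPrimeCore p K) with hπ
  haveI : Group.IsSolvable (K ⧸ Cfsg.pPrimeCore p K) :=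
    Group.isSolvable_of_surjective (QuotientGroup.mk'_surjective _)
  refine PLocal.centralizer_pCore_le PLocal.isPSolvable_of_isSolvable
    (PLocal.pPrimeCore_quotient_pPrimeCore_eq_bot p K) (mem_centralizer_iff.2 fun y hy => ?_)
  obtain ⟨r, rfl⟩ := QuotientGroup.mk'_surjective (Cfsg.pPrimeCore p K) y
  have h1 : π (c * r * c⁻¹ * r⁻¹) = 1 := (QuotientGroup.eq_one_iff _).2 (h r hy)
  rw [map_mul, map_mul, map_mul, map_inv, map_inv, mul_inv_eq_one, mul_inv_eq_iff_eq_mul] at h1
  exact h1.symm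

end CfsgLib.Walter.FieldThree
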