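import Cfsg.Agent.Walter.FieldThree.NB
import Cfsg.Agent.Walter.FieldThree.Solv
import Cfsg.Agent.OddOrder.BG7.Hypotheses
import Cfsg.Agent.SolvCrit.ZJBasic
import Cfsg.Agent.SolvSig.Core
import Cfsg.Agent.PLocal.SL2Section
import Cfsg.Agent.S0118

/-!
# `M = N(Z(J(P)))`: odd by two, contains the Borel normalizer, controls fusion in `P`
-/

set_option autoImplicit false
set_option linter.style.haveILetI false
set_option linter.unusedSectionVars false

open Subgroup
open scoped Pointwise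

namespace CfsgLib.Walter.FieldThree

universe u

/-- `M = O ⊔ ⟨t⟩` odd by two, with a Sylow 3-subgroup `P` of the group inside `M' ⊓ O`. -/
structure NormSetting {G : Type u} [Group G] {L : Subgroup G} (t : G) (U : Subgroup L)
    (O P : Subgroup G) : Prop where
  odd : Odd (Nat.card O)
  t_notMem : t ∉ O
  t_norm : t ∈ normalizer (O : Set G)
  sylow : IsPGroup 3 P ∧ P ≤ O ∧ ∀ Q : Subgroup G, IsPGroup 3 Q → P ≤ Q → Q = P
  t_P : t ∈ normalizer (P : Set G)
  UG_le : UG U ≤ P
  fixed_le : ∀ y ∈ O, Commute t y → y ∈ NB t U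
  odd_NB : ∀ y ∈ NB t U, Odd (orderOf y) → y ∈ O
  coreInv : ∀ y ∈ (Cfsg.pPrimeCore 3 O).map O.subtype, Commute t y → y = 1
  focal : ∀ a ∈ P, a ∈ ⁅O ⊔ zpowers t, O ⊔ zpowers t⁆

variable {G : Type u} [Group G] [Finite G] {t : G} {L : Subgroup G} {U : Subgroup L} {x w : L} {f ℓ : ℕ}
  (h : LocSetting t L U x w f ℓ)
include h

namespace LocSetting

/-- Candidates. -/
def IsCand (_h : LocSetting t L U x w f ℓ) (X : Subgroup G) : Prop :=
  X ≠ ⊥ ∧ IsPGroup 3 X ∧ NB t U ≤ normalizer (X : Set G)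

theorem NB_le_normalizer_UG : NB t U ≤ normalizer (UG U : Set G) := inf_le_right

theorem UG_ne_bot : UG U ≠ ⊥ := fun e =>
  h.U_ne_bot ((map_eq_bot_iff_of_injective U L.subtype_injective).1 e)

theorem isCand_UG : h.IsCand (UG U) := ⟨h.UG_ne_bot, h.isPGroup_UG, h.NB_le_normalizer_UG⟩

/-- The normalizer of a candidate is odd by two and meets `C(t)` in the Borel normalizer. -/
theorem cand_normalizer {X : Subgroup G} (hX : h.IsCand X) :
    ∃ O : Subgroup G, Odd (Nat.card O) ∧ t ∉ O ∧ t ∈ normalizer (O : Set G) ∧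
      O ⊔ zpowers t = normalizer (X : Set G) ∧ (∀ y ∈ O, Commute t y → y ∈ NB t U) ∧
      (∀ y ∈ normalizer (X : Set G), Odd (orderOf y) → y ∈ O) := by
  obtain ⟨hX1, hXp, hXn⟩ := hX
  have htX : t ∈ normalizer (X : Set G) := hXn h.t_mem_NB
  have hinv : ∀ s ∈ normalizer (X : Set G), Commute t s → s * s = 1 → s = 1 ∨ s = t := by
    intro s hs hts hs2
    by_contra hne
    push Not at hne
    have hso : orderOf s = 2 := Small.orderOf_eq_two_iff_sq.2 ⟨hne.1, hs2⟩
    have hXt : X ≤ centralizer ({t} : Set G) := fun a ha =>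
      h.mem_cent (h.le_centralizer_of_four hXp hso hts hne.2 htX hs a ha).1
    have hXU : X = UG U := (h.eq_bot_or_UG hXp hXt hXn).resolve_left hX1
    rcases h.involution_NB (s := s) ⟨h.mem_cent hts, hXU ▸ hs⟩ hs2 with e | e
    · exact hne.1 e
    · exact hne.2 e
  obtain ⟨O, hOle, hO, htO, hn, hsup, hodd⟩ := h.exists_odd_complement _ htX hinv
  refine ⟨O, hO, htO, hn htX, hsup, fun y hy hty => ⟨h.mem_cent hty, ?_⟩, hodd⟩
  -- `O ∩ L` lies in the Borel subgroup
  set K := O.subgroupOf L with hK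
  have hUK : U ≤ K := fun z hz => mem_subgroupOf.2 (hodd _ (hXn (h.UG_le_NB ⟨z, hz, rfl⟩))
    (orderOf_pow_three (k := 1) (by
      rw [pow_one, ← Subgroup.coe_pow, h.borel.pow z hz, Subgroup.coe_one])))
  have hKN : K ≤ normalizer (U : Set L) := by
    intro g hg
    by_contra hg'
    have htop := h.borel.gen K hUK g hg hg'
    have hwO : (w : G) ∈ O := mem_subgroupOf.1 (htop.ge (mem_top w))
    have hw1 : (w : G) = 1 := eq_one_of_sq_of_odd (hO.of_dvd_nat (O.orderOf_dvd_natCard hwO))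
      (by rw [← Subgroup.coe_mul, h.borel.w_sq]; rfl)
    exact h.borel.w_notMem ((Subtype.ext hw1 : w = 1) ▸ one_mem _)
  refine mem_normalizer_fintype ?_
  rintro _ ⟨z, hz, rfl⟩
  set z' : L := ⟨y * z * y⁻¹, h.conj_L hty z.2⟩
  have hz'K : z' ∈ K := mem_subgroupOf.2 (O.mul_mem (O.mul_mem hy (mem_subgroupOf.1 (hUK hz))) (O.inv_mem hy))
  refine ⟨z', h.mem_U_of_pow (hKN hz'K) (k := 1) (Subtype.ext ?_), rfl⟩
  show (y * (z : G) * y⁻¹) ^ 3 ^ 1 = 1
  rw [conj_pow, pow_one, ← Subgroup.coe_pow, h.borel.pow z hz, Subgroup.coe_one, mul_one, mul_inv_cancel]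

/-- A nontrivial 3-core or 3'-core relation: the fixed points of `t` in `O_{3'}(O)` are trivial. -/
theorem coreInv_of_cand {O : Subgroup G} (hO : Odd (Nat.card O))
    (hNB : NB t U ≤ normalizer (O : Set G))
    (hfix : ∀ y ∈ O, Commute t y → y ∈ NB t U) {y : G}
    (hy : y ∈ (Cfsg.pPrimeCore 3 O).map O.subtype) (hty : Commute t y) : y = 1 := by
  haveI : Fact (Nat.Prime 3) := ⟨Nat.prime_three⟩
  haveI := pPrimeCore_characteristic (p := 3) (K := O)
  set T := (Cfsg.pPrimeCore 3 O).map O.subtype with hT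
  have hTn : NB t U ≤ normalizer (T : Set G) :=
    hNB.trans (SolvSig.normalizer_le_normalizer_map_char O _)
  have hcT : (Nat.card T).Coprime 3 := by
    rw [hT, card_map_of_injective O.subtype_injective]
    exact PLocal.coprime_card_pPrimeCore 3 O
  have hyO : y ∈ O := map_subtype_le _ hy
  have hyNB := hfix y hyO hty
  have hsmall : ∀ e ∈ T, e ∈ UG U → e = 1 := by
    intro e he he'
    obtain ⟨k, hk⟩ := h.isPGroup_UG ⟨e, he'⟩
    have hk' : e ^ 3 ^ k = 1 := by simpa using congrArg Subtype.val hk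
    rw [← orderOf_eq_one_iff]
    exact Nat.eq_one_of_dvd_coprimes (hcT.symm.pow_left k) (orderOf_dvd_of_pow_eq_one hk')
      (T.orderOf_dvd_natCard he)
  have hcomm : ∀ d ∈ T, Commute t d → ∀ z ∈ U, Commute d (z : G) := by
    intro d hd htd z hz
    have hdN := hfix d (map_subtype_le _ hd) htd
    have e1 : d * (z : G) * d⁻¹ * (z : G)⁻¹ ∈ UG U :=
      mul_mem ((mem_normalizer_iff.1 hdN.2 _).1 ⟨z, hz, rfl⟩) (inv_mem ⟨z, hz, rfl⟩)
    have e2 : d * (z : G) * d⁻¹ * (z : G)⁻¹ ∈ T := by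
      have := mul_mem hd ((mem_normalizer_iff.1 (hTn (h.UG_le_NB ⟨z, hz, rfl⟩)) _).1 (inv_mem hd))
      simpa [mul_assoc] using this
    have e3 := hsmall _ e2 e1
    exact mul_inv_eq_iff_eq_mul.1 (mul_inv_eq_one.1 e3)
  refine h.eq_one_of_centralizes hty (hO.of_dvd_nat (O.orderOf_dvd_natCard hyO)) ?_ (hcomm y hy hty)
  set e := y * (x : G) * y⁻¹ * (x : G)⁻¹ with he
  have heT : e ∈ T := by
    have := mul_mem hy ((mem_normalizer_iff.1 (hTn h.x_mem_NB) _).1 (inv_mem hy))
    simpa [he, mul_assoc] using this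
  have heL : e ∈ L := mul_mem (h.conj_L hty x.2) (inv_mem x.2)
  have hte : Commute t e := h.commute_t (h.le heL)
  obtain ⟨u, hu, hu1⟩ := (bot_or_exists_ne_one U).resolve_left h.U_ne_bot
  have heU : e ∈ UG U := ⟨⟨e, heL⟩,
    h.borel.cent u hu hu1 _ (Subtype.ext (hcomm e heT hte u hu).eq), rfl⟩
  exact mul_inv_eq_iff_eq_mul.1 (mul_inv_eq_one.1 (hsmall e heT heU))

/-- Fusion control gives the focal property. -/
theorem mem_commutator_of_control {M : Subgroup G} (P : Sylow 3 G) (hPM : (P : Subgroup G) ≤ M)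
    (hcontrol : ∀ a ∈ (P : Subgroup G), ∀ g : G, g⁻¹ * a * g ∈ (P : Subgroup G) →
      ∃ n ∈ M, n⁻¹ * a * n = g⁻¹ * a * g) : ∀ a ∈ (P : Subgroup G), a ∈ ⁅M, M⁆ := by
  classical
  haveI : Fact (Nat.Prime 3) := ⟨Nat.prime_three⟩
  haveI := h.min.simple
  have hperf : commutator G = ⊤ := by
    rcases IsSimpleGroup.eq_bot_or_eq_top_of_normal _ (inferInstance : (commutator G).Normal) with h' | h'
    · exfalso
      refine h.min.not_comm ⟨⟨fun a b => commutatorElement_eq_one_iff_mul_comm.1 ?_⟩⟩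
      rw [← mem_bot, ← h']
      exact commutator_mem_commutator (mem_top a) (mem_top b)
    · exact h'
  intro a ha
  let ϕ : (P : Subgroup G) →* Abelianization M := Abelianization.of.comp (Subgroup.inclusion hPM)
  have htr : MonoidHom.transfer ϕ a = 1 :=
    MonoidHom.mem_ker.1 (Abelianization.commutator_subset_ker _ (hperf.ge (mem_top a)))
  letI := Fintype.ofFinite (Quotient (MulAction.orbitRel (zpowers a) (G ⧸ (P : Subgroup G))))
  rw [MonoidHom.transfer_eq_prod_quotient_orbitRel_zpowers_quot] at htr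
  have hterm : ∀ q : Quotient (MulAction.orbitRel (zpowers a) (G ⧸ (P : Subgroup G))),
      ϕ ⟨q.out.out⁻¹ * a ^ Function.minimalPeriod (a • ·) q.out * q.out.out,
        QuotientGroup.out_conj_pow_minimalPeriod_mem _ a q.out⟩ =
      ϕ ⟨a, ha⟩ ^ Function.minimalPeriod (a • ·) q.out := by
    intro q
    obtain ⟨n, hn, e⟩ := hcontrol _ (pow_mem ha (Function.minimalPeriod (a • ·) q.out)) q.out.out
      (QuotientGroup.out_conj_pow_minimalPeriod_mem _ a q.out)
    rw [← map_pow]
    have hsub : Subgroup.inclusion hPM ⟨_, QuotientGroup.out_conj_pow_minimalPeriod_mem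
        (P : Subgroup G) a q.out⟩ = (⟨n, hn⟩ : M)⁻¹ *
        Subgroup.inclusion hPM (⟨a, ha⟩ ^ Function.minimalPeriod (a • ·) q.out) * ⟨n, hn⟩ :=
      Subtype.ext (by simpa using e.symm)
    show Abelianization.of (Subgroup.inclusion hPM _) = Abelianization.of (Subgroup.inclusion hPM _)
    rw [hsub, map_mul, map_mul, map_inv, mul_comm, mul_inv_cancel_left]
  rw [Finset.prod_congr rfl fun q _ => hterm q, Finset.prod_pow_eq_pow_sum] at htr
  have hsum : ∑ q : Quotient (MulAction.orbitRel (zpowers a) (G ⧸ (P : Subgroup G))),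
      Function.minimalPeriod (a • ·) q.out = (P : Subgroup G).index :=
    (Subgroup.index_eq_sum_minimalPeriod (P : Subgroup G) a).symm
  rw [hsum] at htr
  obtain ⟨k, hk⟩ := P.isPGroup' ⟨a, ha⟩
  have h1 : ϕ ⟨a, ha⟩ = 1 := by
    rw [← orderOf_eq_one_iff]
    refine Nat.eq_one_of_dvd_coprimes
      (((Nat.Prime.coprime_iff_not_dvd Nat.prime_three).2 P.not_dvd_index).pow_left k)
      (orderOf_dvd_of_pow_eq_one (by rw [← map_pow, hk, map_one])) (orderOf_dvd_of_pow_eq_one htr)
  have h2 : (⟨a, hPM ha⟩ : M) ∈ (Abelianization.of (G := M)).ker := MonoidHom.mem_ker.2 h1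
  rw [Abelianization.ker_of] at h2
  rw [← map_subtype_commutator]
  exact ⟨_, h2, rfl⟩

theorem no_sl2 : ¬ ∃ (H K : Subgroup G) (_ : (K.subgroupOf H).Normal),
    Nonempty ((H ⧸ K.subgroupOf H) ≃* Matrix.SpecialLinearGroup (Fin 2) (ZMod 3)) := by
  rintro ⟨H, K, hK, ⟨e⟩⟩
  haveI : Fact (Nat.Prime 3) := ⟨Nat.prime_three⟩
  refine PLocal.not_hasSL2Section_of_abelian_sylow_two (p := 3) (H := H) (by norm_num) (fun T => ?_)
    ⟨H, le_rfl, e.toMonoidHom.comp (QuotientGroup.mk' (K.subgroupOf H)),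
      e.surjective.comp (QuotientGroup.mk'_surjective _)⟩
  obtain ⟨S, hS⟩ := (T.isPGroup'.map H.subtype).exists_le_sylow
  exact ⟨⟨fun a b => Subtype.ext (Subtype.ext
    (h.min.sylow_comm S (hS ⟨a, a.2, rfl⟩) (hS ⟨b, b.2, rfl⟩)).eq)⟩⟩

/-- The Sylow subgroup and its normalizer. -/
theorem exists_normSetting : ∃ O P : Subgroup G, NormSetting t U O P := by
  classical
  haveI : Fact (Nat.Prime 3) := ⟨Nat.prime_three⟩
  set μ := fun X : Subgroup G => (Nat.card (normalizer (X : Set G))).factorization 3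
  obtain ⟨X, hX, hmax⟩ := Set.exists_max_image {X : Subgroup G | h.IsCand X} μ (Set.toFinite _)
    ⟨_, h.isCand_UG⟩
  obtain ⟨O, hO, htO, htn, hsup, hfix, hodd⟩ := h.cand_normalizer hX
  have hOX : O ≤ normalizer (X : Set G) := hsup ▸ le_sup_left
  have hnO : normalizer (X : Set G) ≤ normalizer (O : Set G) :=
    hsup.ge.trans (sup_le le_normalizer (zpowers_le.2 htn))
  have hNBO : NB t U ≤ normalizer (O : Set G) := hX.2.2.trans hnO
  have hcore := fun y hy => h.coreInv_of_cand hO hNBO hfix (y := y) hy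
  -- the 3-part of the Borel normalizer and a `t`-invariant Sylow subgroup above it
  obtain ⟨S0⟩ : Nonempty (Sylow 3 (NB t U)) := inferInstance
  set P0 := (S0 : Subgroup (NB t U)).map (NB t U).subtype with hP0
  have hP0p : IsPGroup 3 P0 := S0.isPGroup'.map _
  have hP0NB : P0 ≤ NB t U := map_subtype_le _
  have hP0O : P0 ≤ O := fun y hy => by
    obtain ⟨k, hk⟩ := hP0p ⟨y, hy⟩
    exact hodd y (hX.2.2 (hP0NB hy)) (orderOf_pow_three (k := k) (by simpa using congrArg Subtype.val hk))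
  have hUP0 : UG U ≤ P0 := by
    have hn : ((UG U).subgroupOf (NB t U)).Normal :=
      (normal_subgroupOf_iff_le_normalizer h.UG_le_NB).2 h.NB_le_normalizer_UG
    haveI : (comap (NB t U).subtype (UG U)).Normal := hn
    have := IsPGroup.le_sylow_of_normal
      (h.isPGroup_UG.comap_of_injective (NB t U).subtype (NB t U).subtype_injective) S0
    exact fun y hy => ⟨⟨y, h.UG_le_NB hy⟩, this (mem_subgroupOf.2 hy), rfl⟩
  have hcop : (Nat.card (zpowers t)).Coprime (Nat.card O) := by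
    rw [Nat.card_zpowers, h.inv]; exact Nat.coprime_two_left.2 hO
  have htP0 : zpowers t ≤ normalizer (P0 : Set G) := zpowers_le.2 (centralizer_le_normalizer _
    (mem_centralizer_iff.2 fun y hy => (h.commute_t (hP0NB hy).1).eq.symm))
  obtain ⟨T, hT0, hTt⟩ := Coprime.exists_invariant_sylow_ge (zpowers_le.2 htn) hcop
    (Or.inr (Cfsg.Agent.S0205.result hO)) hP0O hP0p htP0
  set T' := (T : Subgroup O).map O.subtype with hT'
  have hT'p : IsPGroup 3 T' := T.isPGroup'.map _
  set W := Cfsg.centerThompsonOf 3 T' with hW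
  have hT'W : normalizer (T' : Set G) ≤ normalizer (W : Set G) :=
    SolvCrit.normalizer_le_normalizer_centerThompson 3 T'
  have htW : t ∈ normalizer (W : Set G) := hT'W (hTt (mem_zpowers t))
  set T3 := (Cfsg.pPrimeCore 3 O).map O.subtype with hT3
  haveI := pPrimeCore_characteristic (p := 3) (K := O)
  have htT3 : t ∈ normalizer (T3 : Set G) := SolvSig.normalizer_le_normalizer_map_char O _ htn
  haveI : Group.IsSolvable O := Cfsg.Agent.S0205.result hO
  have hZJ := OddOrder.normalizer_centerThompson_sup_pPrimeCore hO 3 T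
  have hWmap : (Cfsg.centerThompsonOf 3 (T : Subgroup O)).map O.subtype = W :=
    OddOrder.ZJ.map_centerThompsonOf O.subtype_injective.injOn
  -- the fixed points of `t` in `O` normalize `W`
  have hB : ∀ y ∈ O, Commute t y → y ∈ normalizer (W : Set G) := by
    intro y hy hty
    obtain ⟨d, hd, n, hn, hdn⟩ := Coprime.exists_mul_of_mem_sup (N := Cfsg.pPrimeCore 3 O)
      (H := normalizer (Cfsg.centerThompsonOf 3 (T : Subgroup O) : Set O))
      le_normalizer_of_normal ((by rw [sup_comm]; exact hZJ : Cfsg.pPrimeCore 3 O ⊔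
        normalizer (Cfsg.centerThompsonOf 3 (T : Subgroup O) : Set O) = ⊤).ge (mem_top (⟨y, hy⟩ : O)))
    have hnW : (n : G) ∈ normalizer (W : Set G) := by
      rw [← hWmap]
      refine mem_normalizer_fintype ?_
      rintro _ ⟨z, hz, rfl⟩
      exact ⟨n * z * n⁻¹, (mem_normalizer_iff.1 hn z).1 hz, rfl⟩
    have hdn' : (d : G) * n = y := congrArg Subtype.val hdn
    set T0 := T3 ⊓ normalizer (W : Set G) with hT0'
    have htT0 : t ∈ normalizer (T0 : Set G) :=
      inf_normalizer_le_normalizer_inf ⟨htT3, le_normalizer htW⟩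
    have hd3 : (d : G) ∈ T3 := ⟨d, hd, rfl⟩
    have hm : (d : G)⁻¹ * (t * d * t⁻¹) ∈ T0 := by
      refine ⟨T3.mul_mem (T3.inv_mem hd3) ((mem_normalizer_iff.1 htT3 _).1 hd3), ?_⟩
      have e : (d : G)⁻¹ * (t * d * t⁻¹) = n * (t * (n : G)⁻¹ * t⁻¹) := by
        have hyy : t * y * t⁻¹ = y := by rw [hty.eq, mul_inv_cancel_right]
        calc (d : G)⁻¹ * (t * d * t⁻¹) = n * y⁻¹ * (t * y * t⁻¹) * (t * (n : G)⁻¹ * t⁻¹) := by
              rw [← hdn']; group
          _ = _ := by rw [hyy, inv_mul_cancel_right]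
      rw [e]
      exact (normalizer (W : Set G)).mul_mem hnW ((normalizer (W : Set G)).mul_mem
        ((normalizer (W : Set G)).mul_mem htW ((normalizer (W : Set G)).inv_mem hnW))
        ((normalizer (W : Set G)).inv_mem htW))
    have hT0le : T0 ≤ O := inf_le_left.trans (map_subtype_le _)
    obtain ⟨c, htc, hc⟩ := exists_fixed_coset htT0
      (by rw [h.inv]; exact Nat.coprime_two_left.2 (hO.of_dvd_nat (Subgroup.card_dvd_of_le hT0le))) hm
    have hc1 : c = 1 := hcore c (by
      have := mul_mem hd3 hc.1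
      rwa [mul_inv_cancel_left] at this) htc
    rw [hc1, mul_one] at hc
    rw [← hdn']
    exact mul_mem (inv_mem_iff.1 hc.2) hnW
  have hNBW : NB t U ≤ normalizer (W : Set G) := by
    intro y hy
    have hym : y ∈ O ⊔ zpowers t := hsup.ge (hX.2.2 hy)
    obtain ⟨o, ho, z, hz, rfl⟩ := Coprime.exists_mul_of_mem_sup (zpowers_le.2 htn) hym
    have hzW : z ∈ normalizer (W : Set G) := zpowers_le.2 htW hz
    refine mul_mem (hB o ho ?_) hzW
    have hzt : Commute t z := by
      obtain ⟨i, rfl⟩ := mem_zpowers_iff.1 hz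
      exact (Commute.refl t).zpow_right i
    have := (h.commute_t hy.1).mul_right hzt.inv_right
    rwa [mul_inv_cancel_right] at this
  have hT'ne : T' ≠ ⊥ := fun e => h.UG_ne_bot (le_bot_iff.1 (e ▸ hUP0.trans hT0))
  have hWc : h.IsCand W := by
    refine ⟨SolvCrit.centerThompson_ne_bot hT'p hT'ne, hT'p.to_le ?_, hNBW⟩
    rw [← hWmap]; exact map_mono (OddOrder.centerThompsonOf_le 3 _)
  -- `T'` is a Sylow subgroup of the group
  have hTcard : Nat.card T' = 3 ^ μ X := by
    rw [hT', card_map_of_injective O.subtype_injective, T.card_eq_multiplicity]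
    congr 1
    have hc2 : Nat.card (normalizer (X : Set G)) = Nat.card O * 2 := by
      rw [← hsup, Coprime.card_sup_eq (zpowers_le.2 htn) (Coprime.inf_eq_bot_of_coprime hcop.symm),
        Nat.card_zpowers, h.inv]
    show _ = (Nat.card (normalizer (X : Set G))).factorization 3
    rw [hc2, Nat.factorization_mul Nat.card_pos.ne' two_ne_zero]
    simp [Nat.factorization_eq_zero_of_not_dvd (show ¬ 3 ∣ 2 by norm_num)]
  obtain ⟨P, hP⟩ := hT'p.exists_le_sylow
  have hPT : (P : Subgroup G) = T' := by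
    refine le_antisymm ?_ hP
    by_contra hnle
    haveI := P.isPGroup'.isNilpotent
    obtain ⟨⟨n, hn0⟩, hnN, hnP⟩ := SetLike.exists_of_lt
      (Group.normalizerCondition_of_isNilpotent (T'.subgroupOf (P : Subgroup G))
        (lt_top_iff_ne_top.2 fun e => hnle (subgroupOf_eq_top.1 e)))
    have hnT : n ∈ normalizer (T' : Set G) := mem_normalizer_fintype fun y hy =>
      mem_subgroupOf.1 ((mem_normalizer_iff.1 hnN ⟨y, hP hy⟩).1 (mem_subgroupOf.2 hy))
    have hle : T' ⊔ zpowers n ≤ normalizer (W : Set G) :=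
      sup_le (le_normalizer.trans hT'W) (zpowers_le.2 (hT'W hnT))
    have hp2 : IsPGroup 3 (T' ⊔ zpowers n : Subgroup G) :=
      P.isPGroup'.to_le (sup_le hP (zpowers_le.2 hn0))
    obtain ⟨b, hb⟩ := IsPGroup.iff_card.1 hp2
    have hble : b ≤ μ X := le_trans
      ((Nat.prime_three.pow_dvd_iff_le_factorization Nat.card_pos.ne').1 (hb ▸ Subgroup.card_dvd_of_le hle))
      (hmax W hWc)
    have heq : T' = T' ⊔ zpowers n := eq_of_le_of_card_ge le_sup_left
      (by rw [hb, hTcard]; exact Nat.pow_le_pow_right (by norm_num) hble)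
    exact hnP (mem_subgroupOf.2 (heq.ge (mem_sup_right (mem_zpowers n))))
  obtain ⟨O', hO', htO', htn', hsup', hfix', hodd'⟩ := h.cand_normalizer hWc
  have hnO' : normalizer (W : Set G) ≤ normalizer (O' : Set G) :=
    hsup'.ge.trans (sup_le le_normalizer (zpowers_le.2 htn'))
  have hT'O' : T' ≤ O' := fun y hy => by
    obtain ⟨k, hk⟩ := hT'p ⟨y, hy⟩
    exact hodd' y (hT'W (le_normalizer hy)) (orderOf_pow_three (k := k) (by simpa using congrArg Subtype.val hk))
  refine ⟨O', T', hO', htO', htn', ⟨hT'p, hT'O', fun Q hQ hle => ?_⟩, hTt (mem_zpowers t),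
    hUP0.trans hT0, hfix', fun y hy ho => hodd' y (hNBW hy) ho, ?_, ?_⟩
  · rw [← hPT]; exact P.is_maximal' hQ (hPT ▸ hle)
  · exact fun y hy => h.coreInv_of_cand hO' (hNBW.trans hnO') hfix' hy
  · intro a ha
    rw [hsup']
    refine h.mem_commutator_of_control P ?_ ?_ a (hPT ▸ ha)
    · rw [hPT]; exact le_normalizer.trans hT'W
    · intro b hb g hg
      obtain ⟨n, hn, hne⟩ := Cfsg.Agent.S0118.result (p := 3) (by norm_num) h.no_sl2 P {b}
        (Set.singleton_subset_iff.2 hb) g (by rintro _ ⟨_, rfl, rfl⟩; exact hg)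
      rw [hPT] at hn
      exact ⟨n, hn, hne b rfl⟩

end LocSetting

end CfsgLib.Walter.FieldThree
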