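import Cfsg.Agent.Walter.FieldThree.Normaliser
import Cfsg.Agent.Solvable.Frattini
import Cfsg.Agent.FpfRankTwo73.Setup

/-!
# The module: `M₀ = N_M(R₃)` modulo `T₀ Φ(R₃)`, `R₃` a Sylow 3-subgroup of `O_{3',3}(O)`
-/

set_option autoImplicit false
set_option linter.style.haveILetI false
set_option linter.unusedSectionVars false

open Subgroup
open scoped Pointwise

namespace CfsgLib.Walter.FieldThree

universe u

/-- `O_{3'}(O)`. -/
def Tc {G : Type u} [Group G] (O : Subgroup G) : Subgroup G := (Cfsg.pPrimeCore 3 O).map O.subtype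

/-- `O_{3',3}(O)`. -/
def Rc {G : Type u} [Group G] [Finite G] (O : Subgroup G) : Subgroup G :=
  haveI : Fact (Nat.Prime 3) := ⟨Nat.prime_three⟩
  (upperCore 3 O).map O.subtype

/-- A Sylow subgroup of `O_{3',3}(O)`. -/
def R3 {G : Type u} [Group G] [Finite G] (O P : Subgroup G) : Subgroup G := P ⊓ Rc O

variable {G : Type u} [Group G] [Finite G] {t : G} {L : Subgroup G} {U : Subgroup L} {x w : L} {f ℓ : ℕ}
  {O P : Subgroup G} (h : LocSetting t L U x w f ℓ) (n : NormSetting t U O P)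
include h n

namespace LocSetting

theorem Tc_le : Tc O ≤ Rc O := by
  haveI : Fact (Nat.Prime 3) := ⟨Nat.prime_three⟩
  exact map_mono pPrimeCore_le_upperCore

theorem Rc_le : Rc O ≤ O := map_subtype_le _

theorem normalizer_O_le_Tc : normalizer (O : Set G) ≤ normalizer (Tc O : Set G) := by
  haveI : Fact (Nat.Prime 3) := ⟨Nat.prime_three⟩
  haveI := pPrimeCore_characteristic (p := 3) (K := O)
  exact SolvSig.normalizer_le_normalizer_map_char O _

theorem normalizer_O_le_Rc : normalizer (O : Set G) ≤ normalizer (Rc O : Set G) := by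
  haveI : Fact (Nat.Prime 3) := ⟨Nat.prime_three⟩
  haveI := upperCore_characteristic (p := 3) (K := O)
  exact SolvSig.normalizer_le_normalizer_map_char O _

theorem coprime_Tc : (Nat.card (Tc O)).Coprime 3 := by
  haveI : Fact (Nat.Prime 3) := ⟨Nat.prime_three⟩
  rw [Tc, card_map_of_injective O.subtype_injective]
  exact PLocal.coprime_card_pPrimeCore 3 O

theorem Tc_inf {e : G} (he : e ∈ Tc O) {k : ℕ} (hk : e ^ 3 ^ k = 1) : e = 1 := by
  rw [← orderOf_eq_one_iff]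
  exact Nat.eq_one_of_dvd_coprimes ((h.coprime_Tc n).symm.pow_left k) (orderOf_dvd_of_pow_eq_one hk)
    ((Tc O).orderOf_dvd_natCard he)

theorem pow_mem_Tc {r : G} (hr : r ∈ Rc O) : ∃ k : ℕ, r ^ 3 ^ k ∈ Tc O := by
  haveI : Fact (Nat.Prime 3) := ⟨Nat.prime_three⟩
  obtain ⟨r', hr', rfl⟩ := hr
  obtain ⟨k, hk⟩ := pow_mem_of_upperCore hr'
  exact ⟨k, ⟨r' ^ 3 ^ k, hk, by simp⟩⟩

theorem mem_Rc_of_pow {N : Subgroup G} (hN : N ≤ O) (hn : O ≤ normalizer (N : Set G))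
    (hp : ∀ y ∈ N, ∃ k : ℕ, y ^ 3 ^ k ∈ Tc O) : N ≤ Rc O := by
  haveI : Fact (Nat.Prime 3) := ⟨Nat.prime_three⟩
  haveI : (N.subgroupOf O).Normal := (normal_subgroupOf_iff_le_normalizer hN).2 hn
  have hle : N.subgroupOf O ≤ upperCore 3 O := le_upperCore fun y hy => by
    obtain ⟨k, z, hz, e⟩ := hp y (mem_subgroupOf.1 hy)
    exact ⟨k, (Subtype.ext (by simpa using e) : z = y ^ 3 ^ k) ▸ hz⟩
  exact fun y hy => ⟨⟨y, hN hy⟩, hle (mem_subgroupOf.2 hy), rfl⟩

/-- The fixed points of `t` in `O_{3',3}(O)` lie in `U`. -/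
theorem fixed_Rc {e : G} (he : e ∈ Rc O) (hte : Commute t e) : e ∈ UG U := by
  set D := Rc O ⊓ centralizer ({t} : Set G) with hD
  have hDp : IsPGroup 3 D := fun d => by
    obtain ⟨k, hk⟩ := h.pow_mem_Tc n d.2.1
    exact ⟨k, Subtype.ext (n.coreInv _ hk ((h.commute_t d.2.2).pow_right _))⟩
  have hNBn : NB t U ≤ normalizer (D : Set G) := by
    intro y hy
    refine inf_normalizer_le_normalizer_inf ⟨h.normalizer_O_le_Rc n ?_,
      le_normalizer hy.1⟩
    -- `NB` normalizes `O`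
    obtain ⟨O', hO'le, hc, -, -, hsup, hodd⟩ := h.exists_odd_complement (NB t U) h.t_mem_NB
      (fun s hs _ hs2 => h.involution_NB hs hs2)
    have hle : NB t U ≤ O ⊔ zpowers t := by
      rw [← hsup]
      refine sup_le (fun z hz => mem_sup_left (n.odd_NB z (hO'le hz) ?_)) le_sup_right
      exact hc.of_dvd_nat (O'.orderOf_dvd_natCard hz)
    exact sup_le le_normalizer (zpowers_le.2 n.t_norm) (hle hy)
  rcases h.eq_bot_or_UG hDp inf_le_right hNBn with e0 | e0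
  · rw [(eq_bot_iff_forall _).1 e0 e ⟨he, h.mem_cent hte⟩]; exact one_mem _
  · exact e0.le ⟨he, h.mem_cent hte⟩

/-- `U` lies in `O_{3',3}(O)`. -/
theorem UG_le_Rc : UG U ≤ Rc O := by
  haveI : Fact (Nat.Prime 3) := ⟨Nat.prime_three⟩
  set D := Rc O ⊓ centralizer ({t} : Set G) with hD
  by_cases hD0 : ∀ e ∈ Rc O, Commute t e → e = 1
  swap
  · push Not at hD0
    obtain ⟨e, he, hte, he1⟩ := hD0
    have hDU : D ≤ UG U := fun d hd => h.fixed_Rc n hd.1 (h.commute_t hd.2)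
    have hxD : (x : G) ∈ normalizer (D : Set G) := inf_normalizer_le_normalizer_inf
      ⟨h.normalizer_O_le_Rc n (le_normalizer (n.odd_NB _ h.x_mem_NB (h.orderOf_x ▸ h.ell_odd))),
        le_normalizer (h.le x.2)⟩
    rw [← h.eq_of_invariant hDU hxD fun e0 => he1 ((eq_bot_iff_forall _).1 e0 e ⟨he, h.mem_cent hte⟩)]
    exact inf_le_left
  have htR : t ∈ normalizer (Rc O : Set G) := h.normalizer_O_le_Rc n n.t_norm
  -- `t` inverts `O_{3',3}`
  have hinv : ∀ r ∈ Rc O, t * r * t⁻¹ = r⁻¹ := by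
    have hmap : ∀ r : Rc O, (r : G)⁻¹ * (t * r * t⁻¹) ∈ Rc O := fun r =>
      mul_mem (inv_mem r.2) ((mem_normalizer_iff.1 htR _).1 r.2)
    have hinj : Function.Injective fun r : Rc O => (⟨_, hmap r⟩ : Rc O) := by
      intro r r' e
      have e' : (r : G)⁻¹ * (t * r * t⁻¹) = (r' : G)⁻¹ * (t * r' * t⁻¹) := congrArg Subtype.val e
      have hc := hD0 ((r' : G) * (r : G)⁻¹) (mul_mem r'.2 (inv_mem r.2)) (mul_inv_eq_iff_eq_mul.1 ?_)
      · exact Subtype.ext (mul_inv_eq_one.1 hc).symm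
      · calc t * ((r' : G) * (r : G)⁻¹) * t⁻¹
            = (r' : G) * ((r' : G)⁻¹ * (t * r' * t⁻¹)) * ((r : G)⁻¹ * (t * r * t⁻¹))⁻¹ * (r : G)⁻¹ := by group
          _ = (r' : G) * (r : G)⁻¹ := by rw [← e', mul_inv_cancel_right]
    intro r hr
    obtain ⟨z, hz⟩ := Finite.injective_iff_surjective.1 hinj ⟨r, hr⟩
    have hz' : (z : G)⁻¹ * (t * z * t⁻¹) = r := congrArg Subtype.val hz
    rw [← hz']
    calc t * ((z : G)⁻¹ * (t * z * t⁻¹)) * t⁻¹ = (t * z * t⁻¹)⁻¹ * ((t * t) * z * (t * t)⁻¹) := by group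
      _ = _ := by rw [h.t_sq]; group
  haveI : Group.IsSolvable O := Cfsg.Agent.S0205.result n.odd
  -- so `O` is generated by `O_{3',3}` and fixed points
  have hdec : ∀ o ∈ O, ∃ c ∈ O, Commute t c ∧ o⁻¹ * c ∈ Rc O := by
    intro o ho
    have hm : o⁻¹ * (t * o * t⁻¹) ∈ O := mul_mem (inv_mem ho) ((mem_normalizer_iff.1 n.t_norm _).1 ho)
    have hcom : ∀ r ∈ Rc O, Commute (o⁻¹ * (t * o * t⁻¹)) r := by
      intro r hr
      have hor : o * r⁻¹ * o⁻¹ ∈ Rc O :=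
        (mem_normalizer_iff.1 (h.normalizer_O_le_Rc n (le_normalizer ho)) _).1 (inv_mem hr)
      refine mul_inv_eq_iff_eq_mul.1 (show _ * r * _⁻¹ = r from ?_)
      calc o⁻¹ * (t * o * t⁻¹) * r * (o⁻¹ * (t * o * t⁻¹))⁻¹
          = o⁻¹ * (t * (o * (t⁻¹ * r * t⁻¹⁻¹) * o⁻¹) * t⁻¹) * o := by group
        _ = o⁻¹ * (t * (o * r⁻¹ * o⁻¹) * t⁻¹) * o := by rw [h.t_inv, ← hinv r hr, h.t_inv]
        _ = r := by rw [hinv _ hor]; group
    have hR : o⁻¹ * (t * o * t⁻¹) ∈ Rc O := by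
      refine ⟨⟨_, hm⟩, mem_upperCore_of_commutator fun r hr => ?_, rfl⟩
      have e : (⟨_, hm⟩ : O) * r * (⟨_, hm⟩ : O)⁻¹ * r⁻¹ = 1 := Subtype.ext (by
        show o⁻¹ * (t * o * t⁻¹) * (r : G) * (o⁻¹ * (t * o * t⁻¹))⁻¹ * (r : G)⁻¹ = 1
        rw [(hcom r ⟨r, hr, rfl⟩).eq, mul_inv_cancel_right, mul_inv_cancel])
      rw [e]; exact one_mem _
    obtain ⟨c, htc, hc⟩ := exists_fixed_coset htR
      (by rw [h.inv]; exact Nat.coprime_two_left.2 (n.odd.of_dvd_nat (Subgroup.card_dvd_of_le (h.Rc_le n)))) hR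
    refine ⟨c, ?_, htc, hc⟩
    have := mul_mem ho (h.Rc_le n hc)
    rwa [mul_inv_cancel_left] at this
  have hUO : UG U ≤ O := n.UG_le.trans n.sylow.2.1
  have hUn : UG U ≤ normalizer (Rc O : Set G) := (hUO.trans le_normalizer).trans (h.normalizer_O_le_Rc n)
  refine le_trans le_sup_right (h.mem_Rc_of_pow n (N := Rc O ⊔ UG U) (sup_le (h.Rc_le n) hUO) ?_ ?_)
  · intro o ho
    obtain ⟨c, hcO, htc, hc⟩ := hdec o ho
    have hcN := n.fixed_le c hcO htc
    have hcn : c ∈ normalizer ((Rc O ⊔ UG U : Subgroup G) : Set G) :=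
      normalizer_inf_normalizer_le_normalizer_sup _ _
        ⟨h.normalizer_O_le_Rc n (le_normalizer hcO), hcN.2⟩
    have := mul_mem hcn (inv_mem (le_normalizer (mem_sup_left hc) :
      o⁻¹ * c ∈ normalizer ((Rc O ⊔ UG U : Subgroup G) : Set G)))
    simpa using this
  · intro y hy
    obtain ⟨r, hr, z, hz, rfl⟩ := Coprime.exists_mul_of_mem_sup hUn hy
    set π := QuotientGroup.mk' (Cfsg.pPrimeCore 3 O) with hπ
    obtain ⟨r', hr', rfl⟩ := hr
    obtain ⟨k, hk⟩ := (IsPGroup.to_sup_of_normal_left'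
      (Solvable.isPGroup_pCore (G := O ⧸ Cfsg.pPrimeCore 3 O) 3)
      ((h.isPGroup_UG.comap_of_injective O.subtype O.subtype_injective).map π)
      (haveI := Solvable.pCore_normal (G := O ⧸ Cfsg.pPrimeCore 3 O) 3; le_normalizer_of_normal))
      ⟨π r' * π ⟨z, hUO hz⟩, mul_mem_sup hr' (mem_map_of_mem π hz)⟩
    refine ⟨k, ⟨(r' * ⟨z, hUO hz⟩) ^ 3 ^ k, (QuotientGroup.eq_one_iff _).1 ?_, by simp⟩⟩
    show π _ = 1
    rw [map_pow, map_mul]
    have hk' := congrArg Subtype.val hk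
    rw [Subgroup.coe_pow, Subgroup.coe_one] at hk'
    exact hk'

theorem UG_le_R3 : UG U ≤ R3 O P := le_inf n.UG_le (h.UG_le_Rc n)

theorem isPGroup_R3 : IsPGroup 3 (R3 O P) := n.sylow.1.to_le inf_le_left

theorem Rc_eq : Rc O = Tc O ⊔ R3 O P := by
  haveI : Fact (Nat.Prime 3) := ⟨Nat.prime_three⟩
  refine le_antisymm ?_ (sup_le (h.Tc_le n) inf_le_right)
  rintro _ ⟨r, hr, rfl⟩
  set π := QuotientGroup.mk' (Cfsg.pPrimeCore 3 O) with hπ
  let Po : Sylow 3 O :=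
    { toSubgroup := P.subgroupOf O
      isPGroup' := n.sylow.1.comap_of_injective O.subtype O.subtype_injective
      is_maximal' := by
        intro Q hQ hle
        have hle' : P ≤ Q.map O.subtype := fun y hy =>
          ⟨⟨y, n.sylow.2.1 hy⟩, hle (mem_subgroupOf.2 hy), rfl⟩
        refine le_antisymm (fun q hq => mem_subgroupOf.2 ?_) hle
        exact (n.sylow.2.2 _ (hQ.map _) hle').le ⟨q, hq, rfl⟩ }
  obtain ⟨p, hp, hpe⟩ := Solvable.pCore_le_sylow (Po.mapSurjective (f := π) (QuotientGroup.mk'_surjective _))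
    (show π r ∈ Cfsg.pCore 3 _ from hr)
  have hpP : (p : G) ∈ P := mem_subgroupOf.1 hp
  have hτ : r * p⁻¹ ∈ Cfsg.pPrimeCore 3 O := by
    refine (QuotientGroup.eq_one_iff _).1 ?_
    show π _ = 1
    rw [map_mul, map_inv, hpe, mul_inv_cancel]
  have hτ' : (r : G) * (p : G)⁻¹ ∈ Tc O := ⟨r * p⁻¹, hτ, rfl⟩
  have hpR : (p : G) ∈ Rc O := by
    have := mul_mem (inv_mem (h.Tc_le n hτ')) (⟨r, hr, rfl⟩ : (r : G) ∈ Rc O)
    simpa using this
  have := mul_mem (mem_sup_left (T := R3 O P) hτ') (mem_sup_right (S := Tc O) (⟨hpP, hpR⟩ : (p : G) ∈ R3 O P))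
  simpa using this

theorem R3_inf_Tc : R3 O P ⊓ Tc O = ⊥ := (eq_bot_iff_forall _).2 fun e he => by
  obtain ⟨k, hk⟩ := h.isPGroup_R3 n ⟨e, he.1⟩
  exact h.Tc_inf n he.2 (k := k) (by simpa using congrArg Subtype.val hk)

/-- Conjugates of `R₃` in `O` differ by elements of `O_{3'}(O)`. -/
theorem exists_Tc_conj {g : G} (hg : g ∈ normalizer (O : Set G)) :
    ∃ τ ∈ Tc O, MulAut.conj τ • R3 O P = MulAut.conj g • R3 O P := by
  haveI : Fact (Nat.Prime 3) := ⟨Nat.prime_three⟩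
  have hTn : O ≤ normalizer (Tc O : Set G) := le_normalizer.trans (h.normalizer_O_le_Tc n)
  have hRO : R3 O P ≤ O := inf_le_right.trans (h.Rc_le n)
  have hgT := h.normalizer_O_le_Tc n hg
  have e1 : MulAut.conj g • Rc O = Rc O := Coprime.conj_smul_eq_self (h.normalizer_O_le_Rc n hg)
  have e2 : MulAut.conj g • Tc O = Tc O := Coprime.conj_smul_eq_self hgT
  have heq : Tc O ⊔ R3 O P = Tc O ⊔ MulAut.conj g • R3 O P := by
    rw [← h.Rc_eq n]
    conv_lhs => rw [← e1, h.Rc_eq n, Subgroup.smul_sup, e2]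
  have hle : MulAut.conj g • R3 O P ≤ normalizer (Tc O : Set G) := by
    refine le_trans ?_ ((h.Rc_le n).trans hTn)
    rw [h.Rc_eq n, heq]; exact le_sup_right
  have hcop : (Nat.card (Tc O)).Coprime (Nat.card (R3 O P)) := by
    obtain ⟨m, hm⟩ := IsPGroup.iff_card.1 (h.isPGroup_R3 n)
    rw [hm]; exact (h.coprime_Tc n).pow_right m
  exact Coprime.exists_conj_eq_of_sup_eq (hRO.trans hTn) hle hcop (Coprime.card_conj_smul g _) heq
    (Or.inl (Cfsg.Agent.S0205.result (n.odd.of_dvd_nat (Subgroup.card_dvd_of_le (map_subtype_le _)))))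

theorem t_R3 : t ∈ normalizer (R3 O P : Set G) :=
  inf_normalizer_le_normalizer_inf ⟨n.t_P, h.normalizer_O_le_Rc n n.t_norm⟩

theorem fixed_R3 {y : G} (hy : y ∈ O) (hty : Commute t y) : y ∈ normalizer (R3 O P : Set G) := by
  obtain ⟨τ, hτ, hτe⟩ := h.exists_Tc_conj n (le_normalizer hy : y ∈ normalizer (O : Set G))
  have htn : zpowers t ≤ normalizer (Tc O : Set G) := zpowers_le.2 (h.normalizer_O_le_Tc n n.t_norm)
  have hTodd : Odd (Nat.card (Tc O)) := n.odd.of_dvd_nat (Subgroup.card_dvd_of_le (map_subtype_le _))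
  have hQ : zpowers t ≤ normalizer ((MulAut.conj y • R3 O P : Subgroup G) : Set G) := by
    refine zpowers_le.2 (Coprime.mem_normalizer_iff_conj_smul_eq.2 ?_)
    rw [Coprime.conj_smul_conj_smul, hty.eq, ← Coprime.conj_smul_conj_smul,
      Coprime.conj_smul_eq_self (h.t_R3 n)]
  obtain ⟨c, hc, hce⟩ := Coprime.exists_conj_eq_of_invariant (G := Tc O) (A := zpowers t) htn
    (by rw [Nat.card_zpowers, h.inv]; exact Nat.coprime_two_left.2 hTodd)
    (Or.inr (Cfsg.Agent.S0205.result hTodd)) (zpowers_le.2 (h.t_R3 n)) hQ hτ hτe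
  rw [n.coreInv c hc.1 (mem_centralizer_zpowers.1 hc.2), map_one, one_smul] at hce
  exact Coprime.mem_normalizer_iff_conj_smul_eq.2 hce.symm

/-- Frattini. -/
theorem exists_Tc_mul {g : G} (hg : g ∈ O) :
    ∃ τ ∈ Tc O, τ⁻¹ * g ∈ O ⊓ normalizer (R3 O P : Set G) := by
  obtain ⟨τ, hτ, hτe⟩ := h.exists_Tc_conj n (le_normalizer hg : g ∈ normalizer (O : Set G))
  refine ⟨τ, hτ, O.mul_mem (O.inv_mem (map_subtype_le _ hτ)) hg, Coprime.mem_normalizer_iff_conj_smul_eq.2 ?_⟩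
  rw [← Coprime.conj_smul_conj_smul, ← hτe, Coprime.conj_smul_conj_smul, inv_mul_cancel, map_one, one_smul]

end LocSetting

end CfsgLib.Walter.FieldThree
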