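import Cfsg.Agent.Walter.FieldThree.Local
import Cfsg.Agent.LocalStructure.Averaging

/-!
# The centralizer of the regular element `x`, the Borel normalizer, its invariant 3-subgroups
-/

set_option autoImplicit false
set_option linter.style.haveILetI false
set_option linter.unusedSectionVars false

open Subgroup
open scoped Pointwise

namespace CfsgLib.Walter.FieldThree

universe u

variable {G : Type u} [Group G] [Finite G] {t : G} {L : Subgroup G} {U : Subgroup L} {x w : L} {f ℓ : ℕ}
  (h : LocSetting t L U x w f ℓ)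
include h

namespace LocSetting

theorem normalizer_UG {l : L} : (l : G) ∈ normalizer (UG U : Set G) ↔ l ∈ normalizer (U : Set L) := by
  have key : ∀ z : L, (z : G) ∈ UG U ↔ z ∈ U := fun z =>
    ⟨fun ⟨z', hz', e⟩ => (Subtype.ext e : z' = z) ▸ hz', fun hz => ⟨z, hz, rfl⟩⟩
  constructor
  · intro hl
    refine mem_normalizer_iff.2 fun z => ?_
    rw [← key, ← key, Subgroup.coe_mul, Subgroup.coe_mul, Subgroup.coe_inv]
    exact mem_normalizer_iff.1 hl z
  · intro hl
    refine mem_normalizer_fintype ?_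
    rintro _ ⟨z, hz, rfl⟩
    exact ⟨l * z * l⁻¹, (mem_normalizer_iff.1 hl z).1 hz, rfl⟩

theorem mem_NB {l : L} (hl : l ∈ normalizer (U : Set L)) : (l : G) ∈ NB t U :=
  ⟨h.le l.2, h.normalizer_UG.2 hl⟩

theorem t_mem_NB : t ∈ NB t U :=
  ⟨h.mem_cent (Commute.refl t), centralizer_le_normalizer _ (mem_centralizer_iff.2 fun _ hy => by
    obtain ⟨z, -, rfl⟩ := hy
    exact (h.t_L z).eq.symm)⟩

theorem UG_le_NB : UG U ≤ NB t U := by
  rintro _ ⟨z, hz, rfl⟩
  exact h.mem_NB (le_normalizer hz)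

theorem x_mem_NB : (x : G) ∈ NB t U := h.mem_NB h.borel.x_mem

theorem orderOf_x : orderOf (x : G) = ℓ := by rw [Subgroup.orderOf_coe, h.borel.x_ord]

theorem x_ne_one : x ≠ 1 := fun e => h.prime.one_lt.ne' (by rw [← h.borel.x_ord, e, orderOf_one])

theorem eq_one_of_comm_x {z : L} (hz : z ∈ U) (hc : Commute z x) : z = 1 := by
  by_contra hne
  obtain ⟨-, hw⟩ := h.borel.cx z hc
  refine h.borel.w_notMem (mem_normalizer_fintype fun y hy => ?_)
  refine h.borel.cent z⁻¹ (inv_mem hz) (inv_ne_one.2 hne) _ ?_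
  have := (h.borel.comm y hy z hz).map (MulAut.conj w).toMonoidHom
  simpa [hw] using this

theorem fix_U : fixed (UG U) (zpowers (x : G)) = ⊥ := by
  refine (eq_bot_iff_forall _).2 ?_
  rintro _ ⟨⟨z, hz, rfl⟩, hc⟩
  have hc' : Commute x z := Subtype.ext (mem_centralizer_iff.1 hc _ (mem_zpowers _))
  rw [h.eq_one_of_comm_x hz hc'.symm]
  rfl

theorem ord_nat : orderOf ((3 : ℕ) : ZMod ℓ) = f := by exact_mod_cast h.ord

theorem eq_of_invariant {W : Subgroup G} (hW : W ≤ UG U) (hxW : (x : G) ∈ normalizer (W : Set G))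
    (hne : W ≠ ⊥) : W = UG U := by
  have hfx : fixed W (zpowers (x : G)) = ⊥ :=
    le_bot_iff.1 ((inf_le_inf_right _ hW).trans h.fix_U.le)
  have hc := card_eq_of_invariant h.prime h.ord_nat (h.orderOf_x ▸ pow_orderOf_eq_one (x : G)) hxW hfx
    Nat.prime_three hne ((Subgroup.card_dvd_of_le hW).trans h.card_UG.dvd)
  exact eq_of_le_of_card_ge hW (by rw [hc, h.card_UG])

theorem eq_one_of_conjW {v : L} (hv : v ∈ U) (hn : w * v * w⁻¹ ∈ normalizer (U : Set L)) : v = 1 := by
  have hp : (w * v * w⁻¹) ^ 3 ^ 1 = 1 := by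
    rw [conj_pow, pow_one, h.borel.pow v hv, mul_one, mul_inv_cancel]
  have hv' := h.mem_U_of_pow hn hp
  by_contra hne
  refine h.borel.w_notMem (mem_normalizer_fintype fun y hy => ?_)
  refine h.borel.cent _ hv' (fun e => hne (conj_eq_one_iff.1 e)) _ ?_
  have := (h.borel.comm y hy v hv).map (MulAut.conj w).toMonoidHom
  simpa using this

/-- An element of odd order of `C(t)` commuting with `x` normalizes `U`. -/
theorem normalizes_U {y : G} (hy : Commute t y) (ho : Odd (orderOf y)) (hyx : Commute y (x : G)) :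
    y ∈ normalizer (UG U : Set G) := by
  have hwi : w⁻¹ = w := inv_eq_of_mul_eq_one_left h.borel.w_sq
  set U' := (UG U).map (MulAut.conj (w : G)).toMonoidHom
  have key : ∀ g ∈ normalizer (L : Set G), Commute g (x : G) →
      (UG U).map (MulAut.conj g).toMonoidHom = UG U ∨ (UG U).map (MulAut.conj g).toMonoidHom = U' := by
    intro g hgL hgx
    -- the image is the conjugate of `U` by an element of `L`
    haveI : Fact (Nat.Prime 3) := ⟨Nat.prime_three⟩
    set V := ((UG U).map (MulAut.conj g).toMonoidHom).subgroupOf L with hV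
    have hle : (UG U).map (MulAut.conj g).toMonoidHom ≤ L := by
      rintro _ ⟨_, ⟨z, -, rfl⟩, rfl⟩
      exact (mem_normalizer_iff.1 hgL z).1 z.2
    have hVc : Nat.card V = 3 ^ f := by
      rw [Nat.card_congr (subgroupOfEquivOfLe hle).toEquiv, card_map_of_injective (MulAut.conj g).injective,
        h.card_UG]
    obtain ⟨S, hS⟩ := h.isPGroup_U.exists_le_sylow
    have hSU := h.borel.sylow _ S.isPGroup' hS
    obtain ⟨T, hT⟩ := (IsPGroup.of_card hVc : IsPGroup 3 V).exists_le_sylow
    obtain ⟨c, hc⟩ := MulAction.exists_smul_eq L S T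
    have hTe : (T : Subgroup L) = MulAut.conj c • U := by rw [← hc, Sylow.coe_subgroup_smul, hSU]
    have hVe : V = MulAut.conj c • U := by
      rw [← hTe]
      refine eq_of_le_of_card_ge hT ?_
      rw [hVc, hTe, Coprime.card_conj_smul, h.borel.card_U]
    have hxV : x ∈ normalizer (V : Set L) := mem_normalizer_fintype fun z hz => by
      obtain ⟨v, hv, hve⟩ := mem_subgroupOf.1 hz
      refine mem_subgroupOf.2 ⟨(x : G) * v * (x : G)⁻¹,
        (mem_normalizer_iff.1 h.x_mem_NB.2 v).1 hv, ?_⟩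
      show g * ((x : G) * v * (x : G)⁻¹) * g⁻¹ = (x : G) * (z : G) * (x : G)⁻¹
      rw [← (show g * v * g⁻¹ = z from hve)]
      calc g * ((x : G) * v * (x : G)⁻¹) * g⁻¹ = (g * x) * v * (g * x)⁻¹ := by group
        _ = _ := by rw [hgx.eq]; group
    have hback : (UG U).map (MulAut.conj g).toMonoidHom = V.map L.subtype :=
      (map_subgroupOf_eq_of_le hle).symm
    rcases em (c ∈ normalizer (U : Set L)) with hc' | hc'
    · left
      rw [hback, hVe, Coprime.conj_smul_eq_self hc']
    · right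
      obtain ⟨v, hv, b, hb, rfl⟩ := h.borel.bruhat c hc'
      have hVe' : V = MulAut.conj v • (MulAut.conj w • U) := by
        rw [hVe, Coprime.conj_smul_conj_smul, ← Coprime.conj_smul_conj_smul (v * w) b,
          Coprime.conj_smul_eq_self hb]
      -- `x` normalizes `wUw⁻¹` and `v`-conjugate, so commutes with `v`
      have h1 : w * (v⁻¹ * x * v) * w⁻¹ ∈ normalizer (U : Set L) := by
        rw [Coprime.mem_normalizer_iff_conj_smul_eq]
        have e := Coprime.conj_smul_eq_self hxV
        rw [hVe'] at e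
        simp only [Coprime.conj_smul_conj_smul] at e
        have e2 := congrArg (MulAut.conj (v * w)⁻¹ • ·) e
        simp only [Coprime.conj_smul_conj_smul, inv_mul_cancel, map_one, one_smul] at e2
        rwa [show (v * w)⁻¹ * (x * (v * w)) = w * (v⁻¹ * x * v) * w⁻¹ by
          rw [mul_inv_rev, hwi]; group; rw [show w ^ (2 : ℤ) = w * w by group] at *] at e2
      have h2 : w * x⁻¹ * w⁻¹ ∈ normalizer (U : Set L) := by
        rw [show w * x⁻¹ * w⁻¹ = (w * x * w⁻¹)⁻¹ by group, h.borel.w_x, inv_inv]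
        exact h.borel.x_mem
      have h3 : x⁻¹ * (v⁻¹ * x * v) ∈ U := by
        have := mul_mem ((mem_normalizer_iff.1 (inv_mem h.borel.x_mem) v⁻¹).1 (inv_mem hv)) hv
        simpa [mul_assoc] using this
      have h4 : x⁻¹ * (v⁻¹ * x * v) = 1 := h.eq_one_of_conjW h3 (by
        have := mul_mem h2 h1
        simpa [mul_assoc] using this)
      have hvx : Commute v x := by
        have e : v⁻¹ * x * v = x := by
          rw [inv_mul_eq_one] at h4; exact h4.symm
        show v * x = x * v
        conv_lhs => rw [← e]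
        group
      rw [h.eq_one_of_comm_x hv hvx, map_one, one_smul] at hVe'
      rw [hback, hVe']
      show _ = (U.map L.subtype).map (MulAut.conj (w : G)).toMonoidHom
      rw [Coprime.map_subtype_conj_smul]
      rfl
  have hyL : y ∈ normalizer (L : Set G) := h.nor (h.mem_cent hy)
  rcases key y hyL hyx with e | e
  · exact mem_normalizer_iff_map_conj_eq.2 e
  have hne : U' ≠ UG U := fun e' => h.borel.w_notMem (h.normalizer_UG.1 (mem_normalizer_iff_map_conj_eq.2 e'))
  have h2 : (UG U).map (MulAut.conj (y * y)).toMonoidHom = UG U := by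
    rcases key (y * y) (mul_mem hyL hyL) (hyx.mul_left hyx) with e2 | e2
    · exact e2
    · exfalso
      have hm : ((UG U).map (MulAut.conj y).toMonoidHom).map (MulAut.conj y).toMonoidHom = U' := by
        rw [Subgroup.map_map, ← e2]; congr 1; ext z; simp [mul_assoc]
      rw [e] at hm
      refine hne (map_injective (f := (MulAut.conj y).toMonoidHom) (MulAut.conj y).injective ?_)
      rw [hm, e]
  obtain ⟨m, hm⟩ := exists_half ho
  rw [← hm, pow_two]
  exact pow_mem (mem_normalizer_iff_map_conj_eq.2 h2) m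

/-- An element of odd order of `C(t)` commuting with `x` and with `U` is trivial. -/
theorem eq_one_of_centralizes {y : G} (hy : Commute t y) (ho : Odd (orderOf y))
    (hyx : Commute y (x : G)) (hyU : ∀ z ∈ U, Commute y (z : G)) : y = 1 := by
  -- the conjugate `w y w` also normalizes `U`
  have hw2 : (w : G) * w = 1 := by rw [← Subgroup.coe_mul, h.borel.w_sq]; rfl
  have hwi : (w : G)⁻¹ = w := inv_eq_of_mul_eq_one_left hw2
  have hyn : y ∈ normalizer (L : Set G) := h.nor (h.mem_cent hy)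
  have hyw : (w : G) * y * (w : G)⁻¹ ∈ normalizer (UG U : Set G) := by
    refine h.normalizes_U (((h.t_L w).mul_right hy).mul_right (h.t_L w).inv_right) ?_ ?_
    · rwa [Small.orderOf_conj_eq]
    · have e : (w : G) * (x : G) * (w : G)⁻¹ = (x : G)⁻¹ := by
        exact_mod_cast congrArg Subtype.val h.borel.w_x
      have := (hyx.inv_right.map (MulAut.conj (w : G)).toMonoidHom)
      simpa [e, map_inv] using this
  have hyUn := h.normalizes_U hy ho hyx
  have hmU : ∀ {g : G}, g ∈ normalizer (UG U : Set G) → (UG U).map (MulAut.conj g).toMonoidHom = UG U :=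
    fun hg => map_conj_eq hg
  let K : Subgroup L := (centralizer ({y} : Set G)).subgroupOf L
  have hUK : U ≤ K := fun z hz => mem_subgroupOf.2 (mem_centralizer_singleton_iff.2 (hyU z hz).eq.symm)
  obtain ⟨v, hv, hv1⟩ := (bot_or_exists_ne_one U).resolve_left h.U_ne_bot
  have hgn : w * v * w⁻¹ ∉ normalizer (U : Set L) := fun hn => hv1 (h.eq_one_of_conjW hv hn)
  obtain ⟨u, hu, b, hb, hg⟩ := h.borel.bruhat _ hgn
  -- the image of `w v w⁻¹` under `y`
  obtain ⟨v', hv', hv'e⟩ : ∃ v' ∈ U, y * (w * v * w⁻¹ : L) * y⁻¹ = ((w * v' * w⁻¹ : L) : G) := by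
    obtain ⟨v', hv', e⟩ := (mem_normalizer_iff.1 hyw (v : G)).1 ⟨v, hv, rfl⟩
    refine ⟨v', hv', ?_⟩
    have e' : (v' : G) = (w : G) * y * (w : G)⁻¹ * v * ((w : G) * y * (w : G)⁻¹)⁻¹ := e
    simp only [Subgroup.coe_mul, Subgroup.coe_inv, e', hwi]
    simp only [mul_inv_rev, inv_inv, hwi, mul_assoc]
    simp only [← mul_assoc (w : G) (w : G), hw2, one_mul, mul_one]
  have hmem : (w * v * w⁻¹)⁻¹ * (w * v' * w⁻¹) ∈ normalizer (U : Set L) := by
    refine h.normalizer_UG.1 (mem_normalizer_iff_map_conj_eq.2 ?_)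
    show (UG U).map (MulAut.conj (((w * v * w⁻¹)⁻¹ * (w * v' * w⁻¹) : L) : G)).toMonoidHom = UG U
    rw [Subgroup.coe_mul, ← hv'e, Subgroup.coe_inv]
    have mm : ∀ (g g' : G) (H : Subgroup G), H.map (MulAut.conj (g * g')).toMonoidHom =
        (H.map (MulAut.conj g').toMonoidHom).map (MulAut.conj g).toMonoidHom := by
      intro g g' H; rw [Subgroup.map_map]; congr 1; ext z; simp [mul_assoc]
    -- the conjugate of `U` by `w v w⁻¹` is fixed by `y`
    set U' := (UG U).map (MulAut.conj (w : G)).toMonoidHom with hU'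
    have hyU' : U'.map (MulAut.conj y).toMonoidHom = U' := by
      rw [hU', ← mm, show y * (w : G) = w * ((w : G) * y * (w : G)⁻¹) by
        simp only [hwi]; rw [← mul_assoc, ← mul_assoc, hw2, one_mul], mm, hmU hyw]
    have hgU : (UG U).map (MulAut.conj ((w * v * w⁻¹ : L) : G)).toMonoidHom =
        U'.map (MulAut.conj (u : G)).toMonoidHom := by
      rw [hg, Subgroup.coe_mul, Subgroup.coe_mul, mm, hmU (h.normalizer_UG.2 hb), mm]
    have hfix : ((UG U).map (MulAut.conj ((w * v * w⁻¹ : L) : G)).toMonoidHom).map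
        (MulAut.conj y).toMonoidHom = (UG U).map (MulAut.conj ((w * v * w⁻¹ : L) : G)).toMonoidHom := by
      rw [hgU, ← mm, show y * (u : G) = (u : G) * y from (hyU u hu).eq, mm, hyU']
    rw [mm, mm, mm, hmU (inv_mem hyUn), hfix, ← mm, inv_mul_cancel]
    ext z; simp
  have hvv : v⁻¹ * v' = 1 := h.eq_one_of_conjW (mul_mem (inv_mem hv) hv') (by
    rw [show w * (v⁻¹ * v') * w⁻¹ = (w * v * w⁻¹)⁻¹ * (w * v' * w⁻¹) by group]; exact hmem)
  rw [inv_mul_eq_one] at hvv
  rw [← hvv] at hv'e
  have hgK : w * v * w⁻¹ ∈ K := mem_subgroupOf.2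
    (mem_centralizer_singleton_iff.2 (mul_inv_eq_iff_eq_mul.1 hv'e).symm)
  have hKtop := h.borel.gen K hUK _ hgK hgn
  have hyL : y ∈ centralizer (L : Set G) := mem_centralizer_iff.2 fun l hl =>
    mem_centralizer_singleton_iff.1 (mem_subgroupOf.1 (hKtop.ge (mem_top (⟨l, hl⟩ : L))))
  have hyz : y ∈ zpowers t := h.cent ▸ ⟨hyL, h.mem_cent hy⟩
  refine eq_one_of_sq_of_odd ho ?_
  obtain ⟨i, rfl⟩ := mem_zpowers_iff.1 hyz
  rw [← zpow_add, ← two_mul, zpow_mul, zpow_two, h.t_sq, one_zpow]

/-- An element of 3-power order of `C(t)` commuting with `x` is trivial. -/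
theorem eq_one_of_three {y : G} (hy : Commute t y) {k : ℕ} (hpow : y ^ 3 ^ k = 1)
    (hyx : Commute y (x : G)) : y = 1 := by
  haveI : Fact (Nat.Prime 3) := ⟨Nat.prime_three⟩
  have ho := orderOf_pow_three hpow
  have hn := h.normalizes_U hy ho hyx
  set W := UG U ⊓ centralizer ((zpowers y : Subgroup G) : Set G) with hW
  suffices hWU : W = UG U by
    refine h.eq_one_of_centralizes hy ho hyx fun z hz => ?_
    exact mem_centralizer_iff.1 (hWU.ge ⟨z, hz, rfl⟩ : (z : G) ∈ W).2 y (mem_zpowers y)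
  refine h.eq_of_invariant inf_le_left ?_ ?_
  · exact inf_normalizer_le_normalizer_inf ⟨h.x_mem_NB.2,
      le_normalizer (mem_centralizer_iff.2 fun z hz => by
        obtain ⟨i, rfl⟩ := mem_zpowers_iff.1 hz
        exact (hyx.zpow_left i).eq)⟩
  · intro hbot
    have hp : IsPGroup 3 (zpowers y) := IsPGroup.of_card_dvd_pow (n := k)
      (by rw [Nat.card_zpowers]; exact orderOf_dvd_of_pow_eq_one hpow)
    have hne : UG U ≠ ⊥ := fun e => h.U_ne_bot ((map_eq_bot_iff_of_injective U L.subtype_injective).1 e)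
    obtain ⟨z, hz, hz1, hzc⟩ := LocalStructure.exists_fixed_of_isPGroup hp (h.isPGroup_U.map L.subtype)
      hne (zpowers_le.2 hn)
    exact hz1 ((eq_bot_iff_forall _).1 hbot z ⟨hz, hzc⟩)

end LocSetting

end CfsgLib.Walter.FieldThree
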